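import Cfsg.Agent.Lib.SpMult.SpTwoData
import Cfsg.Agent.Lib.SpMult.SpBij
import Cfsg.Agent.Lib.Sp.Simple

/-!
The kernel of a perfect central extension of `Sp₆(2)` has order at most two.
-/

set_option autoImplicit false
set_option linter.unusedSectionVars false

namespace CfsgLib.DMult.SpSix

open Matrix Cfsg CfsgLib.Sp CfsgLib.SpPresent CfsgLib.SpMult CfsgLib.SpMult.Two

variable {F : Type*} [Field F] {n : ℕ}

local notation "V" n => (Fin n ⊕ Fin n → F)

set_option maxHeartbeats 400000 in
theorem exists_cls_of_comm (h01 : ∀ x : F, x = 0 ∨ x = 1) {E : Type*} [Group E]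
    (π : E →* Matrix.symplecticGroup (Fin n) F) (hπ : Function.Surjective π)
    (hc : π.ker ≤ Subgroup.center E) (hn : 3 ≤ n)
    (H : ∀ v w : V n, v ≠ 0 → w ≠ 0 → v ≠ w → sympForm n F v w = 0 →
      ∀ x y : E, π x = T v → π y = T w → Commute x y) : Nonempty (Cls π) := by
  obtain ⟨k, rfl⟩ : ∃ k, n = k + 1 := ⟨n - 1, by omega⟩
  set a0 : V (k + 1) := Pi.single (Sum.inl 0) 1 with ha0def
  have ha0 : a0 ≠ 0 := single_ne_zero _
  -- the stabiliser centralises every lift
  have hfix : ∀ x : E, π x = T a0 → ∀ X : E, (π X).1 *ᵥ a0 = a0 → Commute X x := by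
    intro x hx X hX
    have hmem : π X ∈ (Subgroup.centralizer {x}).map π := by
      refine mem_of_fix h01 (fun w hw0 hwa => ?_) hX
      obtain ⟨y, hy⟩ := hπ (T w)
      rcases eq_or_ne w a0 with rfl | hne
      · exact ⟨x, Subgroup.mem_centralizer_singleton_iff.2 rfl, hx⟩
      · exact ⟨y, Subgroup.mem_centralizer_singleton_iff.2
          (H _ _ hw0 ha0 hne hwa _ _ hy hx).eq, hy⟩
    obtain ⟨c, hcm, hcX⟩ := hmem
    obtain ⟨z, hz, rfl⟩ := lift_congr h01 π hπ hc hcX.symm
    have h1 : Commute c x := Subgroup.mem_centralizer_singleton_iff.1 hcm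
    exact h1.mul_left (Subgroup.mem_center_iff.1 hz x).symm
  -- movers
  have hmov : ∀ v : V (k + 1), ∃ X : E, v ≠ 0 → (π X).1 *ᵥ a0 = v := fun v => by
    rcases eq_or_ne v 0 with rfl | hv
    · exact ⟨1, fun h => absurd rfl h⟩
    · obtain ⟨A, hA⟩ := transitive_ne_zero_matrix a0 v ha0 hv
      obtain ⟨X, hX⟩ := hπ A
      exact ⟨X, fun _ => by rw [hX, hA]⟩
  choose M hM using hmov
  let cls : E → (V (k + 1)) → E := fun x v => M v * x * (M v)⁻¹
  have hπcls : ∀ x, π x = T a0 → ∀ v, v ≠ 0 → π (cls x v) = T v := fun x hx v hv => by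
    simp only [cls, map_mul, map_inv, hx, T_conj, hM v hv]
  have hequiv : ∀ x, π x = T a0 → ∀ X v, v ≠ 0 → X * cls x v * X⁻¹ = cls x ((π X).1 *ᵥ v) := by
    intro x hx X v hv
    set w := (π X).1 *ᵥ v
    have hw : w ≠ 0 := mulVec_ne_zero _ hv
    have hfx := hfix x hx ((M w)⁻¹ * X * M v) (by
      rw [map_mul, map_mul, mul_mulVec, mul_mulVec, hM v hv, map_inv]
      exact inv_mulVec (hM w hw))
    calc X * cls x v * X⁻¹ = M w * (((M w)⁻¹ * X * M v) * x) * ((M w)⁻¹ * X * M v)⁻¹ * (M w)⁻¹ := by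
          simp only [cls]; group
      _ = cls x w := by rw [hfx.eq]; simp only [cls]; group
  obtain ⟨σ, hσ⟩ := hπ (T a0)
  have hn' : ∃ i j l : Fin (k + 1), i ≠ j ∧ i ≠ l ∧ j ≠ l :=
    ⟨⟨0, by omega⟩, ⟨1, by omega⟩, ⟨2, by omega⟩, by simp, by simp, by simp⟩
  obtain ⟨i, j, l, hij, hil, hjl⟩ := hn'
  set p : V (k + 1) := Pi.single (Sum.inl i) 1 with hp
  set q : V (k + 1) := Pi.single (Sum.inl j) 1 with hq
  set r : V (k + 1) := Pi.single (Sum.inr l) 1 with hr
  have hpq : sympForm (k + 1) F p q = 0 := form_single _ _ hij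
  have hpr : sympForm (k + 1) F p r = 0 := form_single _ _ hil
  have hqr : sympForm (k + 1) F q r = 0 := form_single _ _ hjl
  have h7 : p ≠ 0 ∧ q ≠ 0 ∧ r ≠ 0 ∧ p + q ≠ 0 ∧ p + r ≠ 0 ∧ q + r ≠ 0 ∧ p + q + r ≠ 0 := by
    refine ⟨single_ne_zero _, single_ne_zero _, single_ne_zero _, ?_, ?_, ?_, ?_⟩
    · intro e; have := congrFun e (Sum.inl i); simp [p, q, hij] at this
    · intro e; have := congrFun e (Sum.inl i); simp [p, r] at this
    · intro e; have := congrFun e (Sum.inl j); simp [q, r] at this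
    · intro e; have := congrFun e (Sum.inl i); simp [p, q, r, hij] at this
  obtain ⟨hp0, hq0, hr0, hpq0, hpr0, hqr0, hpqr0⟩ := h7
  set c := σ * σ with hcdef
  set z := fano (cls σ) p q r with hzdef
  have hcc : c ∈ Subgroup.center E := hc (by
    rw [MonoidHom.mem_ker, map_mul, hσ, T_mul_self h01])
  have hzc : z ∈ Subgroup.center E := hc (by
    rw [MonoidHom.mem_ker, ← fano_T h01 hpq hpr hqr]
    simp only [z, fano, map_mul, hπcls σ hσ, hp0, hq0, hr0, hpq0, hpr0, hqr0, hpqr0, ne_eq,
      not_false_eq_true])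
  have hsq : ∀ v, cls σ v * cls σ v = c := fun v => by
    calc cls σ v * cls σ v = M v * c * (M v)⁻¹ := by simp only [cls, c]; group
      _ = c := by rw [Subgroup.mem_center_iff.1 hcc (M v), mul_inv_cancel_right]
  have hcomm : ∀ v w, v ≠ 0 → w ≠ 0 → sympForm (k + 1) F v w = 0 →
      Commute (cls σ v) (cls σ w) := by
    intro v w hv hw h
    rcases eq_or_ne v w with rfl | hne
    · exact Commute.refl _
    · exact H _ _ hv hw hne h _ _ (hπcls σ hσ v hv) (hπcls σ hσ w hw)
  have hz2 : z * z = c ^ 7 := by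
    have hqp : sympForm (k + 1) F q p = 0 := by rw [form_comm h01, hpq]
    have hrp : sympForm (k + 1) F r p = 0 := by rw [form_comm h01, hpr]
    have hrq : sympForm (k + 1) F r q = 0 := by rw [form_comm h01, hqr]
    have cm : ∀ v w, v ≠ 0 → w ≠ 0 → sympForm (k + 1) F v w = 0 →
        Commute (cls σ v) (cls σ w) := hcomm
    simp only [z, fano]
    generalize cls σ = f at cm hsq ⊢
    simp only [← sq] at hsq ⊢
    rw [Commute.mul_pow, Commute.mul_pow, Commute.mul_pow, Commute.mul_pow, Commute.mul_pow,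
      Commute.mul_pow]
    · simp only [hsq, pow_succ, pow_zero, one_mul, mul_assoc]
    all_goals
      repeat' apply Commute.mul_left
    all_goals
      apply cm <;> first
        | assumption
        | simp [form_add_left, form_add_right, sympForm_self, hpq, hpr, hqr, hqp, hrp, hrq]
  let a' : E := c ^ 3 * z⁻¹
  have ha' : a' ∈ Subgroup.center E := mul_mem (pow_mem hcc 3) (inv_mem hzc)
  have hπa' : π a' = 1 := by
    simp only [a', c, z, map_mul, map_pow, map_inv, hσ, T_mul_self h01, one_pow, one_mul, inv_eq_one]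
    simp only [fano, map_mul, hπcls σ hσ, hp0, hq0, hr0, hpq0, hpr0, hqr0, hpqr0, ne_eq,
      not_false_eq_true]
    exact fano_T h01 hpq hpr hqr
  have hnew : π (a' * σ) = T a0 := by rw [map_mul, hπa', one_mul, hσ]
  have hcl : ∀ v, cls (a' * σ) v = a' * cls σ v := fun v => by
    simp only [cls]
    rw [← mul_assoc (M v), Subgroup.mem_center_iff.1 ha' (M v)]
    group
  have hzz : (a' * a') * c = 1 := by
    have h1 : Commute c z := Subgroup.mem_center_iff.1 hzc c
    have h2 : a' * a' = c ^ 6 * (z * z)⁻¹ := by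
      simp only [a']
      rw [show c ^ 3 * z⁻¹ * (c ^ 3 * z⁻¹) = c ^ 3 * (z⁻¹ * c ^ 3) * z⁻¹ by group,
        ((h1.symm.inv_left).pow_right 3).eq]
      group
    rw [h2, hz2]
    group
  refine ⟨⟨cls (a' * σ), hπcls _ hnew, hequiv _ hnew, fun v hv => ?_, fun v w hv hw h => ?_,
    fun a b d hab had hbd => ?_⟩⟩
  · rw [hcl, show a' * cls σ v * (a' * cls σ v) = a' * (cls σ v * a') * cls σ v by group,
      Subgroup.mem_center_iff.1 ha' (cls σ v),
      show a' * (a' * cls σ v) * cls σ v = a' * a' * (cls σ v * cls σ v) by group, hsq, hzz]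
  · rw [hcl, hcl]
    have hca : ∀ g, Commute a' g := fun g => (Subgroup.mem_center_iff.1 ha' g).symm
    exact ((hca a').mul_right (hca _)).mul_left ((hca _).symm.mul_right (hcomm v w hv hw h))
  · -- transport the standard triple
    obtain ⟨A, A0, A1, A2⟩ := exists_move_triple (F := F) hij hil hjl hab had hbd
    obtain ⟨X, hX⟩ := hπ A
    have hstd : fano (cls (a' * σ)) p q r = 1 := by
      simp only [fano, hcl]
      have hl : ∀ g h : E, g * (a' * h) = a' * (g * h) := fun g h => by
        rw [← mul_assoc, Subgroup.mem_center_iff.1 ha' g, mul_assoc]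
      simp only [mul_assoc, hl]
      rw [show cls σ p * (cls σ q * (cls σ r * (cls σ (p + q) * (cls σ (p + r) * (cls σ (q + r) *
        cls σ (p + q + r)))))) = z by simp only [z, fano, mul_assoc]]
      calc a' * (a' * (a' * (a' * (a' * (a' * (a' * z)))))) = (a' * a') ^ 3 * (a' * z) := by
            simp only [pow_succ, pow_zero, one_mul, mul_assoc]
        _ = 1 := by
          rw [eq_inv_of_mul_eq_one_left hzz]
          simp only [a']
          group
    rw [← A0, ← A1, ← A2, ← hX]
    simp only [fano, ← mulVec_add]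
    rw [← hequiv _ hnew X p hp0, ← hequiv _ hnew X q hq0, ← hequiv _ hnew X r hr0,
      ← hequiv _ hnew X _ hpq0, ← hequiv _ hnew X _ hpr0, ← hequiv _ hnew X _ hqr0,
      ← hequiv _ hnew X _ hpqr0]
    calc _ = X * fano (cls (a' * σ)) p q r * X⁻¹ := by simp only [fano]; group
      _ = 1 := by rw [hstd, mul_one, mul_inv_cancel]

theorem two_elts [Fintype F] (hF : Fintype.card F = 2) (t : F) : t = 0 ∨ t = 1 := by
  classical
  by_contra h
  push Not at h
  have h1 : ({0, 1, t} : Finset F).card = 3 :=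
    Finset.card_eq_three.2 ⟨0, 1, t, zero_ne_one, h.1.symm, h.2.symm, rfl⟩
  have := Finset.card_le_univ ({0, 1, t} : Finset F)
  omega

theorem center_eq_bot (h01 : ∀ x : F, x = 0 ∨ x = 1) :
    Subgroup.center (Matrix.symplecticGroup (Fin n) F) = ⊥ := by
  refine (Subgroup.eq_bot_iff_forall _).2 fun A hA => ext_vec fun v => ?_
  rw [Submonoid.coe_one, one_mulVec]
  rcases eq_or_ne v 0 with rfl | hv
  · exact mulVec_zero _
  obtain ⟨w, hw⟩ := exists_pair_one hv
  have e : T (A.1 *ᵥ v) = T v := by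
    rw [← T_conj, (Subgroup.mem_center_iff.1 hA (T v)).symm, mul_inv_cancel_right]
  have h1 := congrArg (fun M : Matrix.symplecticGroup (Fin n) F => M.1 *ᵥ w) e
  simp only [T_apply, form_comm h01 w v, hw, one_smul, add_right_inj] at h1
  rcases h01 (sympForm n F w (A.1 *ᵥ v)) with h | h <;> rw [h] at h1
  · rw [zero_smul] at h1
    exact absurd h1.symm hv
  · rwa [one_smul] at h1

/-- The kernel is a quotient of a group of order two. -/
theorem exists_generator [Fintype F] (h01 : ∀ x : F, x = 0 ∨ x = 1) {E : Type*} [Group E]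
    (π : E →* Matrix.symplecticGroup (Fin 3) F) (hπ : Function.Surjective π)
    (hc : π.ker ≤ Subgroup.center E) (hperf : commutator E = ⊤) :
    ∃ e : E, e * e = 1 ∧ π.ker = Subgroup.zpowers e := by
  set u : V 3 := Pi.single (Sum.inl 0) 1 with hu
  set p : V 3 := Pi.single (Sum.inl 1) 1 with hp
  have hup : sympForm 3 F u p = 0 := form_single _ _ (by simp [idx])
  have hne : u ≠ p := fun e => by
    have := congrFun e (Sum.inl 0)
    simp [u, p] at this
  obtain ⟨x, hx⟩ := hπ (T u)
  obtain ⟨y, hy⟩ := hπ (T p)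
  set e := x * y * x⁻¹ * y⁻¹ with he
  have heker : e ∈ π.ker := by
    rw [MonoidHom.mem_ker, he, map_mul, map_mul, map_mul, map_inv, map_inv, hx, hy,
      (T_commute (v := u) (w := p) (by rw [form_comm h01, hup])).eq]
    group
  have hec := hc heker
  have he2 : e * e = 1 := by
    have hy2 : y * y ∈ Subgroup.center E := hc (by
      rw [MonoidHom.mem_ker, map_mul, hy, T_mul_self h01])
    have h1 : x * y * x⁻¹ = e * y := by simp only [e]; group
    have h2 : x * (y * y) * x⁻¹ = y * y := by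
      rw [Subgroup.mem_center_iff.1 hy2 x, mul_inv_cancel_right]
    rw [show x * (y * y) * x⁻¹ = (x * y * x⁻¹) * (x * y * x⁻¹) by group, h1,
      show e * y * (e * y) = e * (y * e) * y by group, Subgroup.mem_center_iff.1 hec y,
      show e * (e * y) * y = e * e * (y * y) by group] at h2
    exact mul_eq_right.1 h2
  refine ⟨e, he2, le_antisymm ?_ ((Subgroup.zpowers_le).2 heker)⟩
  set N := Subgroup.zpowers e with hN
  have : N.Normal := ⟨fun m hm g => by
    rw [Subgroup.mem_center_iff.1 ((Subgroup.zpowers_le (G := E)).2 hec hm) g, mul_inv_cancel_right]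
    exact hm⟩
  let π' : E ⧸ N →* Matrix.symplecticGroup (Fin 3) F :=
    QuotientGroup.lift N π ((Subgroup.zpowers_le).2 heker)
  have hπ' : Function.Surjective π' := fun m => by
    obtain ⟨g, hg⟩ := hπ m
    exact ⟨QuotientGroup.mk g, hg⟩
  have hc' : π'.ker ≤ Subgroup.center (E ⧸ N) := by
    intro g hg
    induction g using QuotientGroup.induction_on with
    | H g =>
      refine Subgroup.mem_center_iff.2 fun k => ?_
      induction k using QuotientGroup.induction_on with
      | H k =>
        rw [← QuotientGroup.mk_mul, ← QuotientGroup.mk_mul,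
          Subgroup.mem_center_iff.1 (hc (MonoidHom.mem_ker.2 (MonoidHom.mem_ker.1 hg))) k]
  have H : ∀ v w : V 3, v ≠ 0 → w ≠ 0 → v ≠ w → sympForm 3 F v w = 0 →
      ∀ a b : E ⧸ N, π' a = T v → π' b = T w → Commute a b := by
    intro v w hv hw hvw h a b ha hb
    induction a using QuotientGroup.induction_on with
    | H a =>
    induction b using QuotientGroup.induction_on with
    | H b =>
    obtain ⟨A, hA⟩ := witt_matrix ![u, p] ![v, w]
      (indep_pair h01 (single_ne_zero _) (single_ne_zero _) hne) (indep_pair h01 hv hw hvw)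
      (fun i j => by
        fin_cases i <;> fin_cases j <;>
          simp [sympForm_self, hup, h, form_comm h01 p u, form_comm h01 w v])
    obtain ⟨X, hX⟩ := hπ A
    have hab : a * b * a⁻¹ * b⁻¹ = e := by
      rw [comm_eq_of_π h01 π hπ hc (x := a) (y := b) (x' := X * x * X⁻¹) (y' := X * y * X⁻¹)
        (by rw [show π a = T v from ha, map_mul, map_mul, map_inv, hX, hx, T_conj,
          show A.1 *ᵥ u = v from hA 0])
        (by rw [show π b = T w from hb, map_mul, map_mul, map_inv, hX, hy, T_conj,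
          show A.1 *ᵥ p = w from hA 1])]
      rw [show X * x * X⁻¹ * (X * y * X⁻¹) * (X * x * X⁻¹)⁻¹ * (X * y * X⁻¹)⁻¹ = X * e * X⁻¹ by
        simp only [e]; group, Subgroup.mem_center_iff.1 hec X, mul_inv_cancel_right]
    show (a : E ⧸ N) * (b : E ⧸ N) = (b : E ⧸ N) * (a : E ⧸ N)
    rw [← QuotientGroup.mk_mul, ← QuotientGroup.mk_mul, QuotientGroup.eq]
    have h1 : a * b = e * (b * a) := by rw [← hab]; group
    refine Subgroup.mem_zpowers_iff.2 ⟨-1, ?_⟩
    rw [h1, _root_.mul_inv_rev, mul_assoc, ← Subgroup.mem_center_iff.1 (inv_mem hec) (b * a),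
      inv_mul_cancel_left, _root_.zpow_neg_one]
  have hperf' : commutator (E ⧸ N) = ⊤ := by
    rw [← CfsgLib.SchurCover.map_commutator_eq _ (QuotientGroup.mk'_surjective N), hperf,
      Subgroup.map_top_of_surjective _ (QuotientGroup.mk'_surjective N)]
  obtain ⟨C⟩ := exists_cls_of_comm h01 π' hπ' hc' le_rfl H
  have hinj : Function.Injective π' :=
    injective_of_perfect (cdata h01 C (by norm_num)) hperf' hc'
  intro g hg
  have : (g : E ⧸ N) = 1 := hinj (by rw [map_one]; exact hg)
  exact (QuotientGroup.eq_one_iff g).1 this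

end CfsgLib.DMult.SpSix
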