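import Cfsg.Agent.Lib.DMult.SpinPullback
import Cfsg.Agent.Lib.SpMult.SpTwoBase
import Cfsg.Agent.Lib.Sp.Simple

/-!
The action of `Sp₆(2)` on the twenty-eight quadratic forms of minus type, and the double cover.
-/

set_option autoImplicit false

namespace CfsgLib.DMult.SpSix

open Matrix Cfsg CfsgLib.Sp CfsgLib.SpPresent CfsgLib.DMult.SpinPullback

/-- The space. -/
abbrev V3 := Fin 3 ⊕ Fin 3 → ZMod 2

/-- The alternating form. -/
def bf (a x : V3) : ZMod 2 :=
  ∑ i, (a (Sum.inl i) * x (Sum.inr i) + a (Sum.inr i) * x (Sum.inl i))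

theorem sympForm_eq_bf (a x : V3) : sympForm 3 (ZMod 2) a x = bf a x := by
  rw [sympForm_eq_sum]
  refine Finset.sum_congr rfl fun i _ => ?_
  generalize a (Sum.inl i) = p
  generalize x (Sum.inr i) = r
  generalize a (Sum.inr i) = s
  generalize x (Sum.inl i) = t
  revert p r s t
  decide

/-- The quadratic forms with that polar form. -/
def qd (a x : V3) : ZMod 2 := (∑ i, x (Sum.inl i) * x (Sum.inr i)) + bf a x

theorem qd_polar (a x y : V3) : qd a (x + y) = qd a x + qd a y + bf x y := by
  simp only [qd, bf, Pi.add_apply, Fin.sum_univ_three]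
  ring

/-- The index of a form. -/
def coef (f : V3 → ZMod 2) : V3 :=
  Sum.elim (fun i => f (Pi.single (Sum.inr i) 1)) (fun i => f (Pi.single (Sum.inl i) 1))

theorem qd_single_inr (a : V3) (i : Fin 3) : qd a (Pi.single (Sum.inr i) 1) = a (Sum.inl i) := by
  simp [qd, bf, Pi.single_apply, Finset.sum_ite_eq']

theorem qd_single_inl (a : V3) (i : Fin 3) : qd a (Pi.single (Sum.inl i) 1) = a (Sum.inr i) := by
  simp [qd, bf, Pi.single_apply, Finset.sum_ite_eq']

theorem coef_qd (a : V3) : coef (qd a) = a := by
  funext j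
  rcases j with i | i
  · exact qd_single_inr a i
  · exact qd_single_inl a i

theorem qd_coef {f : V3 → ZMod 2} (hf : ∀ x y, f (x + y) = f x + f y + bf x y) :
    qd (coef f) = f := by
  have h2 : ∀ t : ZMod 2, t + t = 0 := by decide
  let d : V3 →+ ZMod 2 := AddMonoidHom.mk' (fun x => qd (coef f) x + f x) fun x y => by
    rw [qd_polar, hf]
    linear_combination h2 (bf x y)
  have hd : d = 0 := by
    refine AddMonoidHom.functions_ext' _ _ _ fun j => AddMonoidHom.ext fun c => ?_
    simp only [AddMonoidHom.comp_apply, AddMonoidHom.single_apply, AddMonoidHom.zero_apply]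
    rcases (by revert c; decide : c = 0 ∨ c = 1) with rfl | rfl
    · rw [Pi.single_zero, map_zero]
    · show qd (coef f) (Pi.single j 1) + f (Pi.single j 1) = 0
      rcases j with i | i
      · rw [qd_single_inl]; exact h2 _
      · rw [qd_single_inr]; exact h2 _
  funext x
  have e : qd (coef f) x + f x = 0 := DFunLike.congr_fun hd x
  linear_combination e - h2 (f x)

/-- The symplectic group. -/
abbrev G6 := Matrix.symplecticGroup (Fin 3) (ZMod 2)

theorem polar_comp (g : G6) (a x y : V3) :
    qd a (g.1 *ᵥ (x + y)) = qd a (g.1 *ᵥ x) + qd a (g.1 *ᵥ y) + bf x y := by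
  rw [mulVec_add, qd_polar, ← sympForm_eq_bf (g.1 *ᵥ x), sympForm_mulVec, sympForm_eq_bf]

/-- The image of a form. -/
def act (g : G6) (a : V3) : V3 := coef fun x => qd a ((g⁻¹).1 *ᵥ x)

theorem qd_act (g : G6) (a x : V3) : qd (act g a) x = qd a ((g⁻¹).1 *ᵥ x) :=
  congrFun (qd_coef (f := fun x => qd a ((g⁻¹).1 *ᵥ x)) (polar_comp g⁻¹ a)) x

/-- The number of zeros. -/
def zeros (a : V3) : ℕ := (Finset.univ.filter fun x => qd a x = 0).card

theorem zeros_act (g : G6) (a : V3) : zeros (act g a) = zeros a := by
  have hinv : ∀ (k : G6) (x : V3), k.1 *ᵥ ((k⁻¹).1 *ᵥ x) = x := fun k x => by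
    rw [mulVec_mulVec, ← Submonoid.coe_mul, mul_inv_cancel, Submonoid.coe_one, one_mulVec]
  refine Finset.card_bij' (fun x _ => (g⁻¹).1 *ᵥ x) (fun x _ => g.1 *ᵥ x) ?_ ?_ ?_ ?_
  · intro x hx
    simp only [Finset.mem_filter, Finset.mem_univ, true_and, qd_act] at hx ⊢
    exact hx
  · intro x hx
    simp only [Finset.mem_filter, Finset.mem_univ, true_and, qd_act] at hx ⊢
    have := hinv g⁻¹ x
    rw [inv_inv] at this
    rwa [this]
  · intro x _; exact hinv g x
  · intro x _
    have := hinv g⁻¹ x
    rwa [inv_inv] at this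

/-- The forms of minus type. -/
abbrev MinusForms := {a : V3 // zeros a = 28}

/-- The permutation of the forms of minus type. -/
def permM : G6 →* Equiv.Perm MinusForms :=
  have hone : ∀ a, act 1 a = a := fun a => by
    rw [act, inv_one, Submonoid.coe_one]
    simp only [one_mulVec]
    exact coef_qd a
  have hmul : ∀ g k a, act (g * k) a = act g (act k a) := fun g k a => by
    refine congrArg coef (funext fun x => ?_)
    rw [qd_act, mulVec_mulVec, ← Submonoid.coe_mul, _root_.mul_inv_rev]
  let f : G6 → Equiv.Perm MinusForms := fun g =>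
    { toFun := fun a => ⟨act g a, (zeros_act g a).trans a.2⟩
      invFun := fun a => ⟨act g⁻¹ a, (zeros_act g⁻¹ a).trans a.2⟩
      left_inv := fun a => Subtype.ext (show act g⁻¹ (act g a.1) = a.1 by
        rw [← hmul, inv_mul_cancel, hone])
      right_inv := fun a => Subtype.ext (show act g (act g⁻¹ a.1) = a.1 by
        rw [← hmul, mul_inv_cancel, hone]) }
  MonoidHom.mk' f fun g k => Equiv.ext fun a => Subtype.ext (hmul g k a.1)

/-- The vector with the given binary digits. -/
def decode (m : ℕ) : V3 :=
  Sum.elim (fun i => if m.testBit i.val then 1 else 0) (fun i => if m.testBit (3 + i.val) then 1 else 0)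

/-- The forms of minus type as codes. -/
def codes : Fin 28 → ℕ := fun i =>
  [9, 11, 13, 15, 18, 19, 22, 23, 25, 26, 29, 30, 36, 37, 38, 39, 41, 43, 44, 46, 50, 51, 52, 53,
    57, 58, 60, 63].getD i.val 0

theorem zeros_codes : ∀ i, zeros (decode (codes i)) = 28 := by decide +kernel

theorem card_minus : (Finset.univ.filter fun a : V3 => zeros a = 28).card = 28 := by decide +kernel

theorem codes_injective : ∀ i j, decode (codes i) = decode (codes j) → i = j := by decide +kernel

/-- The forms of minus type numbered. -/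
def pts (i : Fin 28) : MinusForms := ⟨decode (codes i), zeros_codes i⟩

theorem pts_bijective : Function.Bijective pts := by
  rw [Fintype.bijective_iff_injective_and_card]
  refine ⟨fun i j h => codes_injective i j (congrArg Subtype.val h), ?_⟩
  rw [Fintype.card_fin, Fintype.card_subtype, card_minus]

/-- The action on twenty-eight points. -/
noncomputable def psi28 : G6 →* Equiv.Perm (Fin 28) :=
  (Equiv.ofBijective pts pts_bijective).symm.permCongrHom.toMonoidHom.comp permM

/-- The transvected form. -/
def tauForm (v a : V3) : V3 := coef fun x => qd a (x + bf x v • v)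

/-- The six transpositions. -/
def swaps : List (Fin 28 × Fin 28) := [(4, 5), (6, 7), (12, 13), (14, 15), (20, 21), (22, 23)]

/-- The first coordinate vector. -/
def v0 : V3 := decode 1

theorem tauForm_codes : ∀ i, tauForm v0 (decode (codes i)) = decode (codes (swapProd swaps i)) := by
  decide +kernel

theorem psi28_transvection : psi28 (CfsgLib.SpMult.Two.T v0) = swapProd swaps := by
  refine Equiv.ext fun i => ?_
  show (Equiv.ofBijective pts pts_bijective).symm (permM _ (pts i)) = _
  rw [Equiv.symm_apply_eq]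
  refine Subtype.ext ?_
  show act _ (decode (codes i)) = decode (codes (swapProd swaps i))
  rw [← tauForm_codes, act, inv_eq_of_mul_eq_one_right
    (CfsgLib.SpMult.Two.T_mul_self (by decide) v0)]
  refine congrArg coef (funext fun x => ?_)
  rw [CfsgLib.SpMult.Two.T_apply, sympForm_eq_bf]

theorem swaps_disjoint : swaps.Pairwise Disj := by
  unfold Disj
  decide +kernel

theorem swaps_ne : ∀ p ∈ swaps, p.1 ≠ p.2 := by
  decide +kernel

universe u

/-- The map on matrices of a field isomorphism. -/
def mapSp {R S : Type*} [CommRing R] [CommRing S] (f : R →+* S) (n : ℕ) :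
    Matrix.symplecticGroup (Fin n) R →* Matrix.symplecticGroup (Fin n) S :=
  MonoidHom.mk' (fun A => ⟨A.1.map f, by
    rw [SymplecticGroup.mem_iff]
    have h := congrArg (fun M => M.map f) (SymplecticGroup.mem_iff.1 A.2)
    have hJ : (Matrix.J (Fin n) R).map f = Matrix.J (Fin n) S := by
      ext i j
      rcases i with i | i <;> rcases j with j | j <;>
        simp [Matrix.J, Matrix.one_apply, apply_ite f]
    simpa [Matrix.map_mul, Matrix.transpose_map, hJ] using h⟩)
    fun A B => Subtype.ext Matrix.map_mul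

/-- The double cover of `Sp₆(2)`. -/
theorem exists_double_cover (F : Type u) [Field F] [Fintype F] (hF : Fintype.card F = 2)
    (hperf : commutator (Matrix.symplecticGroup (Fin 3) F) = ⊤) :
    ∃ (Γ : Type u) (_ : Group Γ) (_ : Finite Γ) (σ : Γ →* Matrix.symplecticGroup (Fin 3) F),
      Cfsg.IsStemExtension σ ∧ Nonempty (σ.ker ≃* Multiplicative (ZMod 2)) := by
  let e : ZMod 2 ≃+* F := ZMod.ringEquivOfPrime F Nat.prime_two hF
  let g : Matrix.symplecticGroup (Fin 3) F := mapSp e.toRingHom 3 (CfsgLib.SpMult.Two.T v0)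
  refine exists_stem_two hperf (psi28.comp (mapSp e.symm.toRingHom 3)) g ?_ swaps rfl swaps_ne
    swaps_disjoint ?_
  · rw [← map_mul, CfsgLib.SpMult.Two.T_mul_self (by decide), map_one]
  · rw [MonoidHom.comp_apply, show mapSp e.symm.toRingHom 3 g = CfsgLib.SpMult.Two.T v0 from
      Subtype.ext (by ext i j; simp [g, mapSp])]
    exact psi28_transvection

end CfsgLib.DMult.SpSix
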