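import Cfsg.Agent.Lib.Spin.Basic
import Cfsg.Agent.Lib.SchurCover.Perfect
import Cfsg.Prelude.Def_KGroupFacts

/-!
Pulling the spin double cover of `A_n` back along an action of a perfect group.
-/

set_option autoImplicit false

namespace CfsgLib.DMult.SpinPullback

open CfsgLib.Spin CfsgLib.SchurCover CliffordAlgebra

universe u

variable {n : ℕ}

/-- Two pairs with no common point. -/
def Disj (p q : Fin n × Fin n) : Prop :=
  p.1 ≠ q.1 ∧ p.1 ≠ q.2 ∧ p.2 ≠ q.1 ∧ p.2 ≠ q.2

/-- The product of unit vectors. -/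
noncomputable def trProd : List (Fin n × Fin n) → Cl n
  | [] => 1
  | p :: L => tr p.1 p.2 * trProd L

/-- The product of transpositions. -/
def swapProd : List (Fin n × Fin n) → Equiv.Perm (Fin n)
  | [] => 1
  | p :: L => Equiv.swap p.1 p.2 * swapProd L

theorem tr_anti {p q : Fin n × Fin n} (h : Disj p q) :
    tr p.1 p.2 * tr q.1 q.2 = -(tr q.1 q.2 * tr p.1 p.2) := by
  obtain ⟨h1, h2, h3, h4⟩ := h
  rw [tr, tr, smul_mul_smul_comm, smul_mul_smul_comm, ← smul_neg]
  congr 1
  rw [sub_mul, mul_sub, mul_sub, sub_mul, mul_sub, mul_sub, gen_anti h1, gen_anti h2, gen_anti h3,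
    gen_anti h4]
  abel

theorem tr_trProd {p : Fin n × Fin n} : ∀ L : List (Fin n × Fin n), (∀ q ∈ L, Disj p q) →
    tr p.1 p.2 * trProd L = (-1 : ℝ) ^ L.length • (trProd L * tr p.1 p.2)
  | [], _ => by simp [trProd]
  | q :: L, h => by
    rw [trProd, ← mul_assoc, tr_anti (h q (List.mem_cons_self ..)), neg_mul, mul_assoc,
      tr_trProd L fun r hr => h r (List.mem_cons_of_mem _ hr), mul_smul_comm, List.length_cons,
      pow_succ, mul_neg_one, neg_smul, mul_assoc]

theorem trProd_facts : ∀ L : List (Fin n × Fin n), (∀ p ∈ L, p.1 ≠ p.2) → L.Pairwise Disj →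
    trProd L ∈ W n L.length ∧ reverse (trProd L) * trProd L = 1 ∧
      trProd L * trProd L = (-1 : ℝ) ^ (∑ i ∈ Finset.range L.length, i) • (1 : Cl n) ∧
      (∀ i, trProd L * gen i = (-1 : ℝ) ^ L.length • (gen (swapProd L i) * trProd L))
  | [], _, _ => ⟨one_mem_W, by simp [trProd], by simp [trProd], fun i => by simp [trProd, swapProd]⟩
  | p :: L, hne, hd => by
    rw [List.pairwise_cons] at hd
    obtain ⟨hW, hr, hsq, hact⟩ := trProd_facts L (fun q hq => hne q (List.mem_cons_of_mem _ hq)) hd.2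
    have hp := hne p (List.mem_cons_self ..)
    refine ⟨?_, ?_, ?_, fun i => ?_⟩
    · rw [List.length_cons, Nat.add_comm]
      exact mul_mem_W (tr_mem_W _ _) hW
    · rw [trProd, reverse.map_mul, reverse_tr, mul_assoc, ← mul_assoc (tr p.1 p.2), tr_sq hp,
        one_mul, hr]
    · calc trProd (p :: L) * trProd (p :: L)
          = tr p.1 p.2 * trProd L * (tr p.1 p.2 * trProd L) := rfl
        _ = (-1 : ℝ) ^ L.length • (trProd L * (tr p.1 p.2 * tr p.1 p.2) * trProd L) := by
            conv_lhs => arg 1; rw [tr_trProd L hd.1]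
            rw [smul_mul_assoc]
            simp only [mul_assoc]
        _ = _ := by
            rw [tr_sq hp, mul_one, hsq, smul_smul, ← pow_add, List.length_cons,
              Finset.sum_range_succ, add_comm]
    · rw [trProd, mul_assoc, hact i, mul_smul_comm, ← mul_assoc, tr_mul_gen hp, List.length_cons,
        pow_succ, mul_neg_one, neg_smul, neg_mul, smul_neg, mul_assoc]
      rfl

/-- The lift of a product of six disjoint transpositions squares to the sign. -/
theorem exists_lift_six (L : List (Fin n × Fin n)) (hl : L.length = 6) (hne : ∀ p ∈ L, p.1 ≠ p.2)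
    (hd : L.Pairwise Disj) (hev : swapProd L ∈ alternatingGroup (Fin n)) :
    ∃ u : spinAlt n, ((toAlt n u : alternatingGroup (Fin n)) : Equiv.Perm (Fin n)) = swapProd L ∧
      u * u = negOne n := by
  obtain ⟨hW, hr, hsq, hact⟩ := trProd_facts L hne hd
  rw [hl] at hW hsq
  have hsq' : trProd L * trProd L = -1 := by
    rw [hsq]
    norm_num [Finset.sum_range_succ]
  let x : (Cl n)ˣ := ⟨trProd L, reverse (trProd L),
    by
      have h1 : reverse (trProd L) = -trProd L := by
        have e := congrArg (fun z => z * trProd L) hr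
        simp only [mul_assoc, hsq', one_mul, mul_neg, mul_one] at e
        exact neg_eq_iff_eq_neg.1 e
      rw [h1, mul_neg, hsq', neg_neg], hr⟩
  have hact' : ∀ i, trProd L * gen i = gen (swapProd L i) * trProd L := fun i => by
    rw [hact i, hl, show (-1 : ℝ) ^ 6 = 1 by norm_num, one_smul]
  have hW0 : trProd L ∈ W n 0 := by rwa [W_congr (k := 0) (m := 6) rfl]
  refine ⟨⟨x, hW0, hr, _, hev, hact'⟩, ?_, Subtype.ext (Units.ext ?_)⟩
  · exact permOf_eq _ hact'
  · show trProd L * trProd L = _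
    rw [hsq']
    simp [negOne]

theorem zpowers_negOne {z : spinAlt n} (hz : z ∈ Subgroup.zpowers (negOne n)) :
    z ∈ Subgroup.center (spinAlt n) ∧ z * z = 1 := by
  refine ⟨(Subgroup.zpowers_le.2 (negOne_mem_center n)) hz, ?_⟩
  obtain ⟨k, rfl⟩ := hz
  have h : negOne n * negOne n = 1 := Subtype.ext (Units.ext (by simp [negOne]))
  show negOne n ^ k * negOne n ^ k = 1
  rw [← (Commute.refl (negOne n)).mul_zpow, h, one_zpow]

/-- A stem double cover from an action. -/
theorem exists_stem_two {G : Type u} [Group G] [Finite G] (hperf : commutator G = ⊤)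
    (ψ : G →* Equiv.Perm (Fin n)) (g : G) (hg : g * g = 1) (L : List (Fin n × Fin n))
    (hl : L.length = 6) (hne : ∀ p ∈ L, p.1 ≠ p.2) (hd : L.Pairwise Disj)
    (hψ : ψ g = swapProd L) :
    ∃ (Γ : Type u) (_ : Group Γ) (_ : Finite Γ) (σ : Γ →* G),
      Cfsg.IsStemExtension σ ∧ Nonempty (σ.ker ≃* Multiplicative (ZMod 2)) := by
  have hG : Group.IsPerfect G := Group.isPerfect_def.2 hperf
  have hev : ∀ x, ψ x ∈ alternatingGroup (Fin n) := fun x => by
    rw [Equiv.Perm.mem_alternatingGroup]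
    exact DFunLike.congr_fun (eq_one_of_perfect hG (Equiv.Perm.sign.comp ψ)) x
  let ψ' : G →* alternatingGroup (Fin n) := ψ.codRestrict _ hev
  obtain ⟨u, hu, hu2⟩ := exists_lift_six L hl hne hd (hψ ▸ hev g)
  have hu' : toAlt n u = ψ' g := Subtype.ext (hu.trans hψ.symm)
  have := finite_spinAlt n
  let σ := fibreFst ψ' (toAlt n)
  have hker : ∀ x : fibre ψ' (toAlt n), x ∈ σ.ker ↔
      x.1.1 = 1 ∧ x.1.2 ∈ Subgroup.zpowers (negOne n) := fun x => by
    refine ⟨fun h => ⟨h, ?_⟩, fun h => h.1⟩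
    have e : ψ' x.1.1 = toAlt n x.1.2 := x.2
    rw [show x.1.1 = 1 from h, map_one] at e
    rw [← ker_toAlt]
    exact MonoidHom.mem_ker.2 e.symm
  have hmem : ∀ z ∈ Subgroup.zpowers (negOne n), ((1 : G), z) ∈ fibre ψ' (toAlt n) := fun z hz => by
    rw [← ker_toAlt] at hz
    show ψ' 1 = toAlt n z
    rw [map_one, MonoidHom.mem_ker.1 hz]
  let e : σ.ker ≃* Subgroup.zpowers (negOne n) :=
    { toFun := fun x => ⟨x.1.1.2, ((hker x.1).1 x.2).2⟩
      invFun := fun z => ⟨⟨((1 : G), z.1), hmem z.1 z.2⟩, (hker _).2 ⟨rfl, z.2⟩⟩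
      left_inv := fun x => Subtype.ext (Subtype.ext (Prod.ext ((hker x.1).1 x.2).1.symm rfl))
      right_inv := fun _ => rfl
      map_mul' := fun _ _ => rfl }
  refine ⟨fibre ψ' (toAlt n), inferInstance, inferInstance, σ,
    ⟨fibreFst_surjective ψ' (toAlt_surjective n),
      ker_fibreFst_le_center ψ' ((ker_toAlt n).trans_le
        (Subgroup.zpowers_le.2 (negOne_mem_center n))), ?_⟩, ?_⟩
  · have hsurj : Function.Surjective σ := fibreFst_surjective ψ' (toAlt_surjective n)
    have hmap : (commutator (fibre ψ' (toAlt n))).map σ = ⊤ := by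
      rw [map_commutator_eq _ hsurj, hperf]
    obtain ⟨d, hd', hdg⟩ : g ∈ (commutator (fibre ψ' (toAlt n))).map σ := by
      rw [hmap]; exact Subgroup.mem_top g
    have hdrel : ψ' d.1.1 = toAlt n d.1.2 := d.2
    rw [show d.1.1 = g from hdg, ← hu'] at hdrel
    have hz : u⁻¹ * d.1.2 ∈ Subgroup.zpowers (negOne n) := by
      rw [← ker_toAlt, MonoidHom.mem_ker, map_mul, map_inv, hdrel, inv_mul_cancel]
    obtain ⟨hzc, hz2⟩ := zpowers_negOne hz
    have hd2 : d.1.2 * d.1.2 = negOne n := by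
      calc d.1.2 * d.1.2 = u * (u⁻¹ * d.1.2) * (u * (u⁻¹ * d.1.2)) := by group
        _ = u * u * ((u⁻¹ * d.1.2) * (u⁻¹ * d.1.2)) := by
          rw [mul_assoc u, ← mul_assoc (u⁻¹ * d.1.2) u, ← Subgroup.mem_center_iff.1 hzc u,
            mul_assoc u (u⁻¹ * d.1.2), ← mul_assoc]
        _ = negOne n := by rw [hu2, hz2, mul_one]
    intro x hx
    obtain ⟨k, hk⟩ := ((hker x).1 hx).2
    have : x = (d * d) ^ k := by
      refine Subtype.ext (Prod.ext ?_ ?_)
      · show x.1.1 = (((d * d) ^ k : fibre ψ' (toAlt n)) : G × spinAlt n).1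
        rw [((hker x).1 hx).1, SubgroupClass.coe_zpow, Prod.pow_fst, Subgroup.coe_mul, Prod.fst_mul,
          show d.1.1 = g from hdg, hg, one_zpow]
      · show x.1.2 = (((d * d) ^ k : fibre ψ' (toAlt n)) : G × spinAlt n).2
        rw [SubgroupClass.coe_zpow, Prod.pow_snd, Subgroup.coe_mul, Prod.snd_mul, hd2]
        exact hk.symm
    rw [this]
    exact zpow_mem (mul_mem hd' hd') k
  · refine ⟨e.trans (mulEquivOfPrimeCardEq (p := 2) ?_ ?_)⟩
    · rw [Nat.card_zpowers, orderOf_negOne]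
    · simp

end CfsgLib.DMult.SpinPullback
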