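import Cfsg.Agent.Lib.DMult.Rels

/-!
Matrices over the integers lifting the root elements of `Ω⁺(8, 2)` to the Weyl group of type `E8`, in
a basis of the lattice reducing to a hyperbolic basis modulo 2.
-/

set_option autoImplicit false

namespace CfsgLib.DMult.Two

/-- The lifts of the root elements. -/
def rootMat : ℕ → ℕ → Matrix (Fin 8) (Fin 8) ℤ
  | 0, 2 => ![![1, 0, 10, 0, 0, -1, 10, -4],
    ![0, 1, -26, -4, 1, 4, -26, 4],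
    ![0, 0, 13, 2, 0, -2, 12, -2],
    ![0, 0, 2, -1, 0, 0, 2, 0],
    ![0, 0, 4, 0, -1, 0, 4, 0],
    ![0, 0, 12, 0, 0, -1, 12, 0],
    ![0, 0, -12, -2, 0, 2, -11, 2],
    ![0, 0, 2, 0, 0, 0, 2, -1]]
  | 0, 3 => ![![1, -1, 8, -2, -2, 0, 10, -4],
    ![0, 3, -20, 4, 8, 0, -24, 4],
    ![0, -2, 9, -2, -4, 0, 12, -2],
    ![0, 0, 2, -1, 0, 0, 2, 0],
    ![0, 0, 4, 0, -1, 0, 4, 0],
    ![0, 0, 10, -4, -3, 1, 10, 0],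
    ![0, 2, -8, 2, 4, 0, -11, 2],
    ![0, 0, 2, 0, 0, 0, 2, -1]]
  | 0, 4 => ![![-1, 10, 0, -20, 8, 10, -11, 18],
    ![0, -27, 0, 54, -18, -28, 28, -46],
    ![0, 14, 1, -26, 9, 14, -14, 22],
    ![0, 2, 0, -5, 2, 2, -2, 4],
    ![0, 4, 0, -8, 3, 4, -4, 8],
    ![0, 12, 0, -26, 8, 13, -12, 22],
    ![0, -12, 0, 24, -8, -12, 13, -20],
    ![0, 2, 0, -4, 2, 2, -2, 3]]
  | 0, 5 => ![![-1, -10, -9, 0, -2, -10, 0, -2],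
    ![0, 25, 24, 2, 8, 24, 0, 6],
    ![0, -12, -11, 0, -4, -12, 0, -4],
    ![0, -2, -2, -1, 0, -2, 0, 0],
    ![0, -4, -4, 0, -1, -4, 0, 0],
    ![0, -12, -12, -2, -4, -11, 0, -2],
    ![0, 10, 10, 2, 3, 10, 1, 2],
    ![0, -2, -2, 0, 0, -2, 0, -1]]
  | 0, 6 => ![![1, 2, 0, -4, 2, 2, -2, -7],
    ![0, -3, 2, 8, -4, -4, 6, 18],
    ![0, 2, -1, -4, 2, 2, -4, -8],
    ![0, 0, 0, -1, 1, 0, 0, -2],
    ![0, 0, 0, 0, 1, 0, 0, -4],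
    ![0, 0, -2, -4, 2, 1, -2, -10],
    ![0, -2, 0, 4, -2, -2, 3, 8],
    ![0, 0, 0, 0, 0, 0, 0, -1]]
  | 0, 7 => ![![1, 2, 0, 7, -6, 2, -2, -2],
    ![0, -3, 2, -18, 18, -4, 6, 0],
    ![0, 2, -1, 8, -8, 2, -4, 0],
    ![0, 0, 0, 3, -2, 0, 0, 0],
    ![0, 0, 0, 4, -3, 0, 0, 0],
    ![0, 0, -2, 10, -10, 1, -2, 0],
    ![0, -2, 0, -8, 8, -2, 3, 0],
    ![0, 0, 0, 2, -1, 0, 0, -1]]
  | 1, 2 => ![![1, 0, 8, -4, 0, 0, 8, -4],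
    ![-1, -1, -18, 16, 0, -2, -16, 4],
    ![0, 0, 9, -6, 0, 0, 8, -2],
    ![0, 0, 2, -1, 0, 0, 2, 0],
    ![0, 0, 2, -4, -1, 1, 2, 0],
    ![0, 0, 8, -8, 0, 1, 8, 0],
    ![0, 0, -8, 6, 0, 0, -7, 2],
    ![0, 0, 2, 0, 0, 0, 2, -1]]
  | 1, 3 => ![![1, 0, 8, -4, 0, 0, 8, -4],
    ![0, -1, -20, 12, 0, 0, -16, 4],
    ![0, 0, 9, -6, 0, 0, 8, -2],
    ![0, 0, 2, -1, 0, 0, 2, 0],
    ![0, 1, 4, -2, 1, 0, 2, 0],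
    ![-1, 0, 10, -4, 0, -1, 8, 0],
    ![0, 0, -8, 6, 0, 0, -7, 2],
    ![0, 0, 2, 0, 0, 0, 2, -1]]
  | 1, 4 => ![![-9, -8, 0, 16, 0, -8, 8, 16],
    ![18, 17, 0, -34, 0, 16, -20, -38],
    ![-9, -8, 1, 18, 0, -8, 10, 18],
    ![-2, -2, 0, 3, 0, -2, 2, 4],
    ![-2, -2, 0, 4, 1, -2, 3, 6],
    ![-8, -8, 0, 14, 0, -7, 10, 18],
    ![8, 8, 0, -16, 0, 8, -9, -16],
    ![-2, -2, 0, 4, 0, -2, 2, 3]]
  | 1, 5 => ![![1, -8, -8, -4, 0, -8, 0, -4],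
    ![-8, 17, 20, 18, 0, 16, 0, 14],
    ![4, -8, -9, -8, 0, -8, 0, -8],
    ![0, -2, -2, -1, 0, -2, 0, 0],
    ![2, -2, -3, -4, 1, -2, 0, -2],
    ![4, -8, -10, -10, 0, -7, 0, -6],
    ![-3, 8, 8, 6, 0, 8, -1, 6],
    ![0, -2, -2, 0, 0, -2, 0, -1]]
  | 1, 6 => ![![-3, -4, 0, 8, 0, -4, 4, -4],
    ![12, 13, 2, -24, 0, 12, -10, 6],
    ![-6, -6, -1, 12, 0, -6, 4, -2],
    ![-1, -2, 0, 3, 0, -2, 2, -2],
    ![-2, -2, 0, 4, 1, -2, 2, -1],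
    ![-6, -8, -2, 12, 0, -7, 6, -4],
    ![6, 6, 0, -12, 0, 6, -5, 2],
    ![0, 0, 0, 0, 0, 0, 0, -1]]
  | 1, 7 => ![![5, 12, 0, -12, 0, 12, -12, 0],
    ![-10, -31, 2, 34, 0, -32, 34, -8],
    ![4, 14, -1, -14, 0, 14, -16, 4],
    ![2, 4, 0, -5, 0, 4, -4, 0],
    ![2, 6, 0, -7, 1, 6, -6, 2],
    ![6, 16, -2, -20, 0, 17, -18, 4],
    ![-4, -14, 0, 14, 0, -14, 15, -4],
    ![1, 2, 0, -2, 0, 2, -2, -1]]
  | 2, 4 => ![![-11, 0, 0, -2, -8, 0, -10, 18],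
    ![28, 1, 0, 6, 18, 2, 25, -44],
    ![-14, 0, 1, -2, -8, -1, -12, 22],
    ![-2, 0, 0, -1, -2, 0, -2, 4],
    ![-4, 0, 0, -2, -3, 0, -4, 6],
    ![-12, 0, 0, -4, -8, -1, -12, 20],
    ![12, 0, 0, 4, 8, 0, 11, -20],
    ![-2, 0, 0, 0, -2, 0, -2, 3]]
  | 2, 5 => ![![9, 0, -10, -22, -8, 10, 0, -2],
    ![-24, 1, 27, 58, 18, -24, 0, 8],
    ![12, 0, -13, -28, -8, 12, 0, -4],
    ![2, 0, -2, -5, -2, 2, 0, 0],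
    ![4, 0, -4, -10, -3, 4, 0, -2],
    ![12, 0, -12, -28, -8, 11, 0, -4],
    ![-10, 0, 12, 26, 8, -11, 1, 2],
    ![2, 0, -2, -4, -2, 2, 0, -1]]
  | 2, 6 => ![![1, 0, -2, -4, -4, 2, -2, -8],
    ![-2, 1, 10, 16, 14, -8, 8, 19],
    ![2, 0, -5, -8, -6, 4, -4, -10],
    ![0, 0, 0, -1, -2, 1, 0, -2],
    ![0, 0, -2, -4, -3, 2, -2, -2],
    ![0, 0, -4, -8, -8, 5, -4, -8],
    ![-2, 0, 4, 8, 6, -4, 3, 10],
    ![0, 0, 0, 0, 0, 0, 0, -1]]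
  | 2, 7 => ![![1, 0, -2, 8, 12, -6, -2, -4],
    ![-2, 1, 10, -15, -30, 14, 8, 6],
    ![2, 0, -5, 6, 14, -6, -4, -4],
    ![0, 0, 0, 3, 4, -2, 0, 0],
    ![0, 0, -2, 2, 5, -2, -2, 0],
    ![0, 0, -4, 8, 16, -7, -4, 0],
    ![-2, 0, 4, -6, -14, 6, 3, 4],
    ![0, 0, 0, 2, 2, -1, 0, -1]]
  | 3, 4 => ![![-11, 0, 0, -2, -8, 0, -10, 18],
    ![28, 1, 0, 8, 20, 0, 24, -44],
    ![-14, -1, -1, -4, -10, 0, -12, 22],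
    ![-2, 0, 0, -1, -2, 0, -2, 4],
    ![-4, 0, 0, -2, -3, 0, -4, 6],
    ![-12, 0, 0, -6, -10, 1, -11, 20],
    ![12, 0, 0, 4, 8, 0, 11, -20],
    ![-2, 0, 0, 0, -2, 0, -2, 3]]
  | 3, 5 => ![![9, 10, 10, -2, 12, 0, 0, -2],
    ![-24, -25, -24, 8, -32, 0, 0, 8],
    ![12, 12, 11, -4, 16, 0, 0, -4],
    ![2, 2, 2, -1, 2, 0, 0, 0],
    ![4, 4, 4, -2, 5, 0, 0, -2],
    ![12, 12, 11, -6, 14, 1, 0, -4],
    ![-10, -11, -10, 4, -14, 0, 1, 2],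
    ![2, 2, 2, 0, 2, 0, 0, -1]]
  | 3, 6 => ![![1, 2, 2, 0, 0, 0, -2, -8],
    ![-4, -9, -8, 0, -4, 0, 8, 20],
    ![2, 4, 3, 0, 2, 0, -4, -10],
    ![0, 1, 2, 1, 0, 0, 0, -2],
    ![0, 2, 2, 0, 1, 0, -2, -2],
    ![2, 6, 6, 0, 2, 1, -4, -9],
    ![-2, -4, -4, 0, -2, 0, 3, 10],
    ![0, 0, 0, 0, 0, 0, 0, -1]]
  | 3, 7 => ![![1, -6, -14, -4, 0, 0, -2, -4],
    ![-4, 13, 36, 12, -4, 0, 8, 8],
    ![2, -6, -17, -6, 2, 0, -4, -4],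
    ![0, -2, -4, -1, 0, 0, 0, 0],
    ![0, -2, -6, -2, 1, 0, -2, 0],
    ![2, -6, -18, -7, 2, 1, -4, -2],
    ![-2, 6, 16, 6, -2, 0, 3, 4],
    ![0, -1, -2, 0, 0, 0, 0, -1]]
  | 4, 6 => ![![5, 2, 0, -4, 0, 2, 0, -2],
    ![-18, -9, 0, 16, -2, -8, 2, 8],
    ![8, 4, -1, -8, 0, 4, -2, -3],
    ![2, 0, 0, -1, 0, 0, 1, -2],
    ![4, 2, 0, -4, 1, 2, 0, -2],
    ![10, 4, 0, -8, 2, 3, 0, -6],
    ![-8, -4, 0, 8, 0, -4, 1, 4],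
    ![0, 0, 0, 0, 0, 0, 0, 1]]
  | 4, 7 => ![![-11, 2, 0, -2, 0, 2, -8, 28],
    ![26, -9, 0, 8, -2, -8, 24, -72],
    ![-12, 4, -1, -5, 0, 4, -12, 34],
    ![-4, 0, 0, 1, 0, 0, -2, 8],
    ![-4, 2, 0, -2, 1, 2, -4, 12],
    ![-14, 4, 0, -2, 2, 3, -12, 36],
    ![12, -4, 0, 4, 0, -4, 11, -32],
    ![-2, 0, 0, 0, 0, 0, -1, 5]]
  | 5, 6 => ![![-5, -2, 0, 4, 0, -2, 0, 12],
    ![18, 9, 2, -16, 2, 8, 0, -34],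
    ![-8, -4, -1, 8, 0, -4, 0, 16],
    ![-2, 0, 1, 1, 0, 0, 0, 4],
    ![-4, -2, 0, 4, -1, -2, 0, 6],
    ![-10, -4, 0, 8, -2, -3, 0, 18],
    ![8, 4, 0, -8, 0, 4, -1, -15],
    ![0, 0, 0, 0, 0, 0, 0, 1]]
  | 5, 7 => ![![11, -2, -8, -8, 0, -2, 0, -8],
    ![-26, 9, 24, 18, 2, 8, 0, 20],
    ![12, -4, -11, -8, 0, -4, 0, -8],
    ![4, 0, -2, -3, 0, 0, 0, -4],
    ![4, -2, -4, -2, -1, -2, 0, -4],
    ![14, -4, -12, -10, -2, -3, 0, -12],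
    ![-12, 4, 10, 7, 0, 4, -1, 10],
    ![2, 0, -1, -2, 0, 0, 0, -1]]
  | _, _ => 1

/-- The Gram matrix. -/
def gram : Matrix (Fin 8) (Fin 8) ℤ := ![![4, 2, 0, -4, 1, 2, 0, -4],
  ![2, 4, 2, -4, 2, 3, -2, 0],
  ![0, 2, 4, 2, 2, 0, 1, 0],
  ![-4, -4, 2, 12, 0, -6, 4, 1],
  ![1, 2, 2, 0, 4, 0, 0, 0],
  ![2, 3, 0, -6, 0, 4, -2, 0],
  ![0, -2, 1, 4, 0, -2, 4, -2],
  ![-4, 0, 0, 1, 0, 0, -2, 8]]

/-- Half of the Gram matrix: `gram = halfGram + halfGramᵀ`. -/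
def halfGram : Matrix (Fin 8) (Fin 8) ℤ := ![![2, 2, 0, -4, 1, 2, 0, -4],
  ![0, 2, 2, -4, 2, 3, -2, 0],
  ![0, 0, 2, 2, 2, 0, 1, 0],
  ![0, 0, 0, 6, 0, -6, 4, 1],
  ![0, 0, 0, 0, 2, 0, 0, 0],
  ![0, 0, 0, 0, 0, 2, -2, 0],
  ![0, 0, 0, 0, 0, 0, 2, -2],
  ![0, 0, 0, 0, 0, 0, 0, 4]]

/-- The basis in doubled Euclidean coordinates. -/
def euc : Matrix (Fin 8) (Fin 8) ℤ := ![![0, 0, -2, 0, 0, 0, -2, 1],
  ![0, 2, 2, 0, 0, 2, 0, 1],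
  ![0, -2, 0, 4, -2, -2, 2, -3],
  ![2, 0, 0, 0, 2, 0, 2, -3],
  ![2, 2, 0, -4, 0, 2, -2, -3],
  ![-2, -2, -2, 0, -2, 0, 0, 1],
  ![-2, 0, 2, 4, 2, -2, 0, 1],
  ![0, 0, 0, 0, 0, 0, 0, 1]]

/-- A multiple of the inverse. -/
def eucInv : Matrix (Fin 8) (Fin 8) ℤ := ![![0, 0, 2, 2, 4, 2, 2, 20],
  ![2, 0, -4, -6, -12, -10, -8, -50],
  ![-2, 0, 2, 2, 6, 4, 4, 24],
  ![1, 1, 1, 1, 1, 1, 1, 5],
  ![0, 0, 0, 2, 2, 2, 2, 8],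
  ![0, 2, 2, 4, 6, 6, 4, 24],
  ![0, 0, -2, -2, -6, -4, -4, -22],
  ![0, 0, 0, 0, 0, 0, 0, 4]]

/-- Eight simple roots, as columns. -/
def simples : Matrix (Fin 8) (Fin 8) ℤ := ![![2, 0, 0, 1, 0, 1, -1, 0],
  ![-2, 1, -1, -2, -1, -3, 1, 1],
  ![1, -1, 1, 1, 0, 2, -1, 0],
  ![0, 1, 0, 0, 0, 0, 0, 0],
  ![0, 0, 0, 0, 1, 0, 0, 0],
  ![0, 1, 1, 0, 1, 1, 0, -1],
  ![-1, 0, 0, -1, 0, -2, 1, 0],
  ![1, 0, 0, 0, 0, 0, 0, 0]]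

/-- The inverse. -/
def simplesInv : Matrix (Fin 8) (Fin 8) ℤ := ![![0, 0, 0, 0, 0, 0, 0, 1],
  ![0, 0, 0, 1, 0, 0, 0, 0],
  ![0, 0, 1, 1, 0, 0, 1, 0],
  ![0, -1, 0, 2, 0, -1, 1, -1],
  ![0, 0, 0, 0, 1, 0, 0, 0],
  ![-1, 0, 0, 0, 0, 0, -1, 1],
  ![-2, -1, 0, 2, 0, -1, 0, 2],
  ![-1, 0, 1, 2, 1, -1, 0, 1]]

/-- The number of a signed index. -/
def code (a : J 4) : ℕ := 2 * a.1.val + if a.2 then 0 else 1

/-- The lift of a root element. -/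
def liftMat (a b : J 4) : Matrix (Fin 8) (Fin 8) ℤ :=
  if a.1 < b.1 then rootMat (code a) (code b) else rootMat (code b) (code a)

/-- The coordinate number of a signed index. -/
def co8 (a : J 4) : Fin 8 :=
  if a.2 then ⟨a.1.val, by omega⟩ else ⟨a.1.val + 4, by omega⟩

/-- The root element over two elements, with integer entries. -/
def oMat (a b : J 4) : Matrix (Fin 8) (Fin 8) ℤ := fun i j =>
  (if i = j then 1 else 0) + (if i = co8 a ∧ j = co8 (ng b) then 1 else 0) +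
    (if i = co8 b ∧ j = co8 (ng a) then 1 else 0)

theorem gram_eq : gram = halfGram + halfGram.transpose := by decide +kernel

theorem gram_euc : euc.transpose * euc = 4 • gram := by decide +kernel

theorem eucInv_euc : eucInv * euc = 4 • 1 := by decide +kernel

theorem simples_inv : simples * simplesInv = 1 := by decide +kernel

theorem simples_norm : ∀ i, (simples.transpose * gram * simples) i i = 2 := by decide +kernel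

theorem simples_adj : ∀ i j, i ≠ j → ((i.val, j.val) ∈ [(0, 2), (1, 3), (2, 3), (3, 4), (4, 5),
    (5, 6), (6, 7)]) → (simples.transpose * gram * simples) i j = -1 := by decide +kernel

theorem liftMat_gram : ∀ a b : J 4, a.1 ≠ b.1 →
    (liftMat a b).transpose * gram * liftMat a b = gram := by decide +kernel

theorem liftMat_sq : ∀ a b : J 4, a.1 ≠ b.1 → liftMat a b * liftMat a b = 1 := by decide +kernel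

theorem liftMat_mod : ∀ a b : J 4, a.1 ≠ b.1 → ∀ i j, (liftMat a b i j - oMat a b i j) % 2 = 0 := by
  decide +kernel

theorem liftMat_witness :
    (liftMat (0, true) (1, true) * liftMat (2, true) (3, true)) *
      (liftMat (0, true) (1, true) * liftMat (2, true) (3, true)) = -1 ∧
    (liftMat (0, true) (1, true) * liftMat (2, true) (3, false)) *
      (liftMat (0, true) (1, true) * liftMat (2, true) (3, false)) = -1 ∧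
    (liftMat (3, false) (2, false) * liftMat (1, false) (0, false)) *
      (liftMat (3, false) (2, false) * liftMat (1, false) (0, false)) = -1 ∧
    (liftMat (2, false) (3, false) * liftMat (2, true) (3, false)) *
      (liftMat (2, false) (3, false) * liftMat (2, true) (3, false)) = 1 := by
  decide +kernel

end CfsgLib.DMult.Two
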