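import Cfsg.Agent.Lib.DMult.Univ
import Cfsg.Agent.Lib.DMult.Bruhat
import Cfsg.Agent.Lib.DMult.Reps
import Cfsg.Agent.Lib.DMult.Omega
import Cfsg.Agent.Lib.ChevMult.SplitMult

/-!
Over two elements the kernel of a stem extension of the group of type `D_4` is generated by two
commutators of lifts of orthogonal root elements.
-/

set_option autoImplicit false

namespace CfsgLib.DMult.Two

open CfsgLib.SLPresent CfsgLib.ChevMult
open scoped commutatorElement

universe u

variable {F : Type u} [Field F] {l : ℕ}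

theorem X_ne_one (hl : 4 ≤ l) {a b : J l} (h : a.1 ≠ b.1) : dX F l a b 1 ≠ 1 := by
  intro e
  have e2 := congrArg (orthHom (F := F) hl) e
  rw [orthHom_dX hl h, map_one] at e2
  have e3 := congrArg (fun g => CfsgLib.Orth.app g (bas F (ng b))) e2
  obtain ⟨-, g2, g3⟩ := ne_of_fst h
  simp only [CfsgLib.Orth.app_one] at e3
  rw [app_oX h, oN_bas, if_pos rfl, if_neg (fun e => (ne_of_fst h).1 (ng_injective e))] at e3
  have e4 := congrFun e3 (co a)
  simp [bas_apply, g2] at e4

variable (hF : ∀ t : F, t = 0 ∨ t = 1) (hl : 4 ≤ l)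
include hF hl

theorem flip_one {a b : J l} (h : a.1 ≠ b.1) : dX F l b a 1 = dX F l a b 1 := by
  rw [(dX_rels hl).flip h.symm 1, (hF (-1)).resolve_left (by simp)]

theorem sq_one {a b : J l} (h : a.1 ≠ b.1) : dX F l a b 1 * dX F l a b 1 = 1 := by
  rw [← (dX_rels hl).add h, show (1 : F) + 1 = 0 from (hF _).resolve_right (by simp),
    (dX_rels hl).zero h]

theorem conj_one {a b x y : J l} (hab : a.1 ≠ b.1) (hxy : x.1 ≠ y.1) :
    MulAut.conj (WE (dX F l) a b 1) (dX F l x y 1) = dX F l (rp a b x) (rp a b y) 1 := by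
  obtain ⟨t, ht⟩ := (dX_rels hl).WE_conj hab hxy one_ne_zero (1 : F)
  rcases hF t with rfl | rfl
  · exfalso
    rw [(dX_rels hl).zero (fst_ne_of_equivariant (rp_ng hab) hxy)] at ht
    exact X_ne_one hl hxy ((MulAut.conj (WE (dX F l) a b 1)).map_eq_one_iff.1 ht)
  · exact ht

variable {E : Type u} [Group E] (P : CExt E (Delta F l))

omit hF hl in
/-- The commutator of the lifts of two root elements. -/
noncomputable def zz (a b c d : J l) : E := P.cm (dX F l a b 1) (dX F l c d 1)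

omit hF hl in
/-- The lifts of a root element through a middle index. -/
noncomputable def YY (a m c : J l) (t : F) : E := P.cm (dX F l a m t) (dX F l (ng m) c 1)

omit hF in
theorem p_YY {a m c : J l} (ham : a.1 ≠ m.1) (hmc : m.1 ≠ c.1) (hac : a.1 ≠ c.1) (t : F) :
    P.p (YY P a m c t) = dX F l a c t := by
  rw [YY, P.p_cm, (dX_rels hl).comm_formula ham hmc hac, mul_one]

omit hF in
/-- Root elements with one common index and different others lift to commuting elements. -/
theorem cm_share {a b d : J l} (hab : a.1 ≠ b.1) (had : a.1 ≠ d.1) (hbd : b.1 ≠ d.1) (t u : F) :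
    P.cm (dX F l a b t) (dX F l a d u) = 1 := by
  have R := dX_rels (F := F) hl
  obtain ⟨i, hia, hib, hid⟩ := exists_index hl a.1 b.1 d.1
  rw [show dX F l a d u = ⁅dX F l a (i, true) u, dX F l (ng (i, true)) d 1⁆ by
    rw [R.comm_formula (show a.1 ≠ ((i, true) : J l).1 from hia.symm) hid had, mul_one]]
  refine P.cm_comm_right (R.comm hab hia.symm (Or.inr (Or.inl rfl)) t u).eq ?_
  refine (R.comm hab (show (ng ((i, true) : J l)).1 ≠ d.1 from hid) (Or.inl ⟨?_, ?_, ?_, ?_⟩) t 1).eq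
  · rw [ng_ng]; exact (ne_of_fst (show a.1 ≠ ((i, true) : J l).1 from hia.symm)).1
  · exact (ne_of_fst had).2.1
  · rw [ng_ng]; exact (ne_of_fst (show b.1 ≠ ((i, true) : J l).1 from hib.symm)).1
  · exact (ne_of_fst hbd).2.1

theorem zz_sq {a b c d : J l} (hab : a.1 ≠ b.1) (hcd : c.1 ≠ d.1) (hnz : Nz a b c d) :
    zz P a b c d * zz P a b c d = 1 := by
  rw [zz, ← P.cm_mul_left_of ((dX_rels hl).comm hab hcd hnz 1 1), sq_one hF hl hab, P.cm_one_left]

omit hF in
theorem zz_center {a b c d : J l} (hab : a.1 ≠ b.1) (hcd : c.1 ≠ d.1) (hnz : Nz a b c d) :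
    zz P a b c d ∈ Subgroup.center E :=
  P.cm_mem_center ((dX_rels hl).comm hab hcd hnz 1 1).eq

theorem zz_flip_left {a b c d : J l} (hab : a.1 ≠ b.1) : zz P b a c d = zz P a b c d := by
  rw [zz, zz, flip_one hF hl hab]

theorem zz_flip_right {a b c d : J l} (hcd : c.1 ≠ d.1) : zz P a b d c = zz P a b c d := by
  rw [zz, zz, flip_one hF hl hcd]

theorem zz_rp {p q a b c d : J l} (hpq : p.1 ≠ q.1) (hab : a.1 ≠ b.1) (hcd : c.1 ≠ d.1)
    (hnz : Nz a b c d) :
    zz P (rp p q a) (rp p q b) (rp p q c) (rp p q d) = zz P a b c d := by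
  have e := P.conj_cm (P.lift (WE (dX F l) p q 1)) (dX F l a b 1) (dX F l c d 1)
  rw [P.p_lift, ← MulAut.conj_apply, ← MulAut.conj_apply, ← MulAut.conj_apply, conj_one hF hl hpq hab,
    conj_one hF hl hpq hcd, MulAut.conj_apply] at e
  rw [zz, zz, ← e]
  exact mul_inv_eq_iff_eq_mul.2 (Subgroup.mem_center_iff.1 (zz_center hl P hab hcd hnz) _)

omit hF in
theorem nz_four {a b c d : J l} (hac : a.1 ≠ c.1) (had : a.1 ≠ d.1) (hbc : b.1 ≠ c.1)
    (hbd : b.1 ≠ d.1) : Nz a b c d :=
  Or.inl ⟨(ne_of_fst hac).2.1, (ne_of_fst had).2.1, (ne_of_fst hbc).2.1, (ne_of_fst hbd).2.1⟩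

/-- Changing the middle index. -/
theorem YY_move {a m m' c : J l} (ham : a.1 ≠ m.1) (hmc : m.1 ≠ c.1) (hac : a.1 ≠ c.1)
    (ham' : a.1 ≠ m'.1) (hmc' : m'.1 ≠ c.1) (hmm : m.1 ≠ m'.1) :
    YY P a m' c 1 = zz P m' (ng m) a c * YY P a m c 1 := by
  have h1 : m.1 ≠ (ng m').1 := hmm
  have h2 : (ng (ng m')).1 ≠ (ng m).1 := hmm.symm
  obtain ⟨ga, gb, gna, -, go⟩ := rp_apply h1
  have em : rp m (ng m') m = m' := by rw [ga, ng_ng]
  have enm : rp m (ng m') (ng m) = ng m' := gna
  have c1 : MulAut.conj (WE (dX F l) m (ng m') 1) (dX F l a m 1) = dX F l a m' 1 := by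
    rw [conj_one hF hl h1 ham, em, go a ham ham']
  have c2 : MulAut.conj (WE (dX F l) m (ng m') 1) (dX F l (ng m) c 1) = dX F l (ng m') c 1 := by
    rw [conj_one hF hl h1 (show (ng m).1 ≠ c.1 from hmc), enm, go c hmc.symm hmc'.symm]
  set x1 := P.lift (dX F l m (ng m') 1)
  set x2 := P.lift (dX F l (ng (ng m')) (ng m) (-(1 : F)⁻¹))
  set Y := YY P a m c 1 with hY
  have hY' : YY P a m' c 1 = x1 * x2 * x1 * Y * (x1 * x2 * x1)⁻¹ := by
    rw [hY, YY, YY, P.conj_cm, map_mul, map_mul]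
    simp only [x1, x2, P.p_lift]
    show _ = P.cm (MulAut.conj (WE (dX F l) m (ng m') 1) _) (MulAut.conj (WE (dX F l) m (ng m') 1) _)
    rw [c1, c2]
  have hneg : (-(1 : F)⁻¹) = 1 := (hF _).resolve_left (by simp)
  have hz : ∀ p q : J l, p.1 ≠ q.1 → p.1 ≠ a.1 → p.1 ≠ c.1 → q.1 ≠ a.1 → q.1 ≠ c.1 →
      P.lift (dX F l p q 1) * Y = zz P p q a c * Y * P.lift (dX F l p q 1) := by
    intro p q _ _ _ _ _
    rw [hY, zz, P.cm_eq (P.p_lift _) (p_YY hl P ham hmc hac 1), commutatorElement_def]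
    group
  have hz1 : zz P m (ng m') a c ∈ Subgroup.center E :=
    zz_center hl P h1 hac (nz_four hl ham.symm hmc ham'.symm hmc')
  have hz2 : zz P m' (ng m) a c ∈ Subgroup.center E :=
    zz_center hl P hmm.symm hac (nz_four hl ham'.symm hmc' ham.symm hmc)
  have e1 : x1 * Y = zz P m (ng m') a c * Y * x1 := hz _ _ h1 ham.symm hmc ham'.symm hmc'
  have e2 : x2 * Y = zz P m' (ng m) a c * Y * x2 := by
    show P.lift _ * Y = _ * Y * P.lift _
    rw [hneg, ng_ng]
    exact hz _ _ hmm.symm ham'.symm hmc' ham.symm hmc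
  have hsq := zz_sq hF hl P h1 hac (nz_four hl ham.symm hmc ham'.symm hmc')
  rw [hY', mul_inv_eq_iff_eq_mul]
  calc x1 * x2 * x1 * Y = x1 * x2 * (x1 * Y) := by group
    _ = x1 * (x2 * zz P m (ng m') a c) * Y * x1 := by rw [e1]; group
    _ = x1 * zz P m (ng m') a c * (x2 * Y) * x1 := by
        rw [Subgroup.mem_center_iff.1 hz1 x2]; group
    _ = zz P m (ng m') a c * (x1 * zz P m' (ng m) a c) * Y * x2 * x1 := by
        rw [e2, Subgroup.mem_center_iff.1 hz1 x1]; group
    _ = zz P m (ng m') a c * zz P m' (ng m) a c * (x1 * Y) * x2 * x1 := by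
        rw [Subgroup.mem_center_iff.1 hz2 x1]; group
    _ = zz P m (ng m') a c * (zz P m' (ng m) a c * zz P m (ng m') a c) * Y * x1 * x2 * x1 := by
        rw [e1]; group
    _ = zz P m (ng m') a c * zz P m (ng m') a c * zz P m' (ng m) a c * Y * x1 * x2 * x1 := by
        rw [Subgroup.mem_center_iff.1 hz1 (zz P m' (ng m) a c)]; group
    _ = zz P m' (ng m) a c * Y * (x1 * x2 * x1) := by rw [hsq]; group

/-- The exceptional commutators are products of the others. -/
theorem zz_exc {k b a j : J l} (hkb : k.1 ≠ b.1) (hka : k.1 ≠ a.1) (hab : a.1 ≠ b.1)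
    (hjk : j.1 ≠ k.1) (hjb : j.1 ≠ b.1) (hja : j.1 ≠ a.1) :
    zz P k b k (ng b) = zz P (ng b) (ng j) a k * zz P j (ng b) a k := by
  have R := dX_rels (F := F) hl
  have hnb : a.1 ≠ (ng b).1 := hab
  have hkn : k.1 ≠ (ng b).1 := hkb
  set g := P.lift (dX F l k (ng a) 1)
  set B := P.lift (dX F l a b 1) with hB
  set D := P.lift (dX F l a (ng b) 1) with hD
  set A := ⁅g, B⁆ with hA
  set C := ⁅g, D⁆ with hC
  have pA : P.p A = dX F l k b 1 := by
    rw [hA, map_commutatorElement, P.p_lift, P.p_lift]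
    conv_lhs => arg 2; rw [show a = ng (ng a) from (ng_ng a).symm]
    rw [R.comm_formula (show k.1 ≠ (ng a).1 from hka) (show (ng a).1 ≠ b.1 from hab) hkb, mul_one]
  have pC : P.p C = dX F l k (ng b) 1 := by
    rw [hC, map_commutatorElement, P.p_lift, P.p_lift]
    conv_lhs => arg 2; rw [show a = ng (ng a) from (ng_ng a).symm]
    rw [R.comm_formula (show k.1 ≠ (ng a).1 from hka) (show (ng a).1 ≠ (ng b).1 from hab) hkn,
      mul_one]
  set c1 := ⁅A, C⁆ with hc1
  set c2 := ⁅B, D⁆ with hc2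
  have n1 : Nz k b k (ng b) := Or.inr (Or.inl rfl)
  have n2 : Nz a b a (ng b) := Or.inr (Or.inl rfl)
  have ec1 : c1 = zz P k b k (ng b) := (P.cm_eq pA pC).symm
  have z1 : c1 ∈ Subgroup.center E := by rw [ec1]; exact zz_center hl P hkb hkn n1
  have z2 : c2 ∈ Subgroup.center E := zz_center hl P hab hnb n2
  set M := ⁅B, C⁆ with hM
  set M' := ⁅A, D⁆ with hM'
  have eM : M = YY P a b k 1 := by
    rw [YY, flip_one hF hl hkn]
    exact (P.cm_eq (P.p_lift _) pC).symm
  have eM' : M' = (YY P a (ng b) k 1)⁻¹ := by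
    rw [YY, P.cm_inv, ng_ng, flip_one hF hl hkb]
    exact (P.cm_eq pA (P.p_lift _)).symm
  have pM : P.p M = dX F l a k 1 := by rw [eM, p_YY hl P hab hkb.symm hka.symm]
  have pM' : P.p M' = dX F l a k 1 := by
    rw [eM', map_inv, p_YY hl P hnb (show (ng b).1 ≠ k.1 from hkb.symm) hka.symm]
    exact inv_eq_of_mul_eq_one_right (sq_one hF hl hka.symm)
  have comB : ∀ {Q : E}, P.p Q = dX F l a k 1 → Q * B = B * Q ∧ Q * D = D * Q ∧ Q * A = A * Q ∧
      Q * C = C * Q := by
    intro Q hQ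
    refine ⟨P.commute_of_cm hQ (P.p_lift _) (cm_share hl P hka.symm hab hkb 1 1),
      P.commute_of_cm hQ (P.p_lift _) (cm_share hl P hka.symm hnb hkn 1 1), ?_, ?_⟩
    · refine P.commute_of_cm hQ pA ?_
      rw [← flip_one hF hl hka.symm]
      exact cm_share hl P hka hkb hab 1 1
    · refine P.commute_of_cm hQ pC ?_
      rw [← flip_one hF hl hka.symm]
      exact cm_share hl P hka hkn hab 1 1
  obtain ⟨hMB, hMD, hMA, hMC⟩ := comB pM
  obtain ⟨hM'B, hM'D, hM'A, hM'C⟩ := comB pM'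
  have hfix : ⁅A * B, C * D⁆ = c2 := by
    rw [show A * B = g * B * g⁻¹ by rw [hA, commutatorElement_def]; group,
      show C * D = g * D * g⁻¹ by rw [hC, commutatorElement_def]; group,
      ← conjugate_commutatorElement, ← hc2, Subgroup.mem_center_iff.1 z2 g, mul_inv_cancel_right]
  have key : ⁅A * B, C * D⁆ = c2 * c1 * (M * M') := by
    rw [commutatorElement_def, mul_inv_eq_iff_eq_mul, mul_inv_eq_iff_eq_mul]
    have e1 : B * C = M * C * B := by rw [hM, commutatorElement_def]; group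
    have e2 : A * C = c1 * C * A := by rw [hc1, commutatorElement_def]; group
    have e3 : B * D = c2 * D * B := by rw [hc2, commutatorElement_def]; group
    have e4 : A * D = M' * D * A := by rw [hM', commutatorElement_def]; group
    calc A * B * (C * D) = A * (B * C) * D := by group
      _ = A * M * C * (B * D) := by rw [e1]; group
      _ = M * (A * C * c2) * D * B := by rw [← hMA, e3]; group
      _ = M * c2 * (A * C) * D * B := by rw [Subgroup.mem_center_iff.1 z2 (A * C)]; group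
      _ = M * (c2 * c1) * C * (A * D) * B := by rw [e2]; group
      _ = M * (c2 * c1) * (C * M') * D * A * B := by rw [e4]; group
      _ = (M * (c2 * c1)) * M' * C * D * A * B := by rw [← hM'C]; group
      _ = (c2 * c1) * (M * M') * (C * D) * (A * B) := by
          rw [Subgroup.mem_center_iff.1 (mul_mem z2 z1) M]; group
  rw [key, mul_assoc, mul_eq_left] at hfix
  have hj1 : (ng b).1 ≠ (ng j).1 := hjb.symm
  have h1 := YY_move hF hl P hab hkb.symm hka.symm hja.symm hjk hjb.symm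
  have h2 := YY_move hF hl P hja.symm hjk hka.symm hnb (show (ng b).1 ≠ k.1 from hkb.symm)
    (show j.1 ≠ (ng b).1 from hjb)
  rw [h1] at h2
  have h3 : c1 = (M * M')⁻¹ := eq_inv_of_mul_eq_one_left hfix
  rw [← ec1, h3, eM, eM', h2]
  group

omit hF hl in
/-- The subgroup of the two commutators. -/
noncomputable def Z0 : Subgroup E :=
  Subgroup.closure
    {zz P (⟨0, by omega⟩, true) (⟨1, by omega⟩, true) (⟨2, by omega⟩, true) (⟨3, by omega⟩, true),
     zz P (⟨0, by omega⟩, true) (⟨1, by omega⟩, true) (⟨2, by omega⟩, true) (⟨3, by omega⟩, false)}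

omit hF hl in
/-- Moving a signed index to a target while fixing the indices outside a set. -/
theorem exists_move (a t : J l) {x : Fin l} (hxt : x ≠ t.1) :
    ∃ L : List (J l × J l), (∀ r ∈ L, r.1.1 ≠ r.2.1) ∧
      (L.map fun r => rp r.1 r.2).prod a = t ∧
      ∀ y : J l, y.1 ≠ a.1 → y.1 ≠ t.1 → y.1 ≠ x → (L.map fun r => rp r.1 r.2).prod y = y := by
  by_cases h : a.1 = t.1
  · rcases eq_or_eq_ng h with rfl | rfl
    · exact ⟨[], by simp, rfl, fun y _ _ _ => rfl⟩
    · have h1 : (ng t).1 ≠ ((x, true) : J l).1 := hxt.symm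
      have h2 : (ng ((x, true) : J l)).1 ≠ (ng t).1 := hxt
      obtain ⟨ga, -, -, -, go⟩ := rp_apply h1
      obtain ⟨ga', -, -, -, go'⟩ := rp_apply h2
      refine ⟨[(ng ((x, true) : J l), ng t), (ng t, (x, true))], ?_, ?_, fun y y1 y2 y3 => ?_⟩
      · intro r hr
        simp only [List.mem_cons, List.not_mem_nil, or_false] at hr
        rcases hr with rfl | rfl
        exacts [h2, h1]
      · simp only [List.map_cons, List.map_nil, List.prod_cons, List.prod_nil, mul_one,
          Equiv.Perm.mul_apply]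
        rw [ga, ga', ng_ng]
      · simp only [List.map_cons, List.map_nil, List.prod_cons, List.prod_nil, mul_one,
          Equiv.Perm.mul_apply]
        rw [go y (by simpa using y2) y3, go' y y3 (by simpa using y2)]
  · have h1 : a.1 ≠ (ng t).1 := h
    obtain ⟨ga, -, -, -, go⟩ := rp_apply h1
    refine ⟨[(a, ng t)], ?_, ?_, fun y y1 y2 _ => ?_⟩
    · intro r hr
      rw [List.mem_singleton] at hr
      subst hr
      exact h1
    · simp [ga]
    · simp [go y y1 (by simpa using y2)]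

theorem zz_list (L : List (J l × J l)) (hL : ∀ r ∈ L, r.1.1 ≠ r.2.1) {a b c d : J l}
    (hab : a.1 ≠ b.1) (hac : a.1 ≠ c.1) (had : a.1 ≠ d.1) (hbc : b.1 ≠ c.1) (hbd : b.1 ≠ d.1)
    (hcd : c.1 ≠ d.1) :
    ∀ π : Equiv.Perm (J l), π = (L.map fun r => rp r.1 r.2).prod →
      zz P (π a) (π b) (π c) (π d) = zz P a b c d ∧
        (∀ x y : J l, x.1 ≠ y.1 → (π x).1 ≠ (π y).1) := by
  induction L with
  | nil => intro π hπ; subst hπ; exact ⟨rfl, fun x y h => h⟩
  | cons r L ih =>
    intro π hπ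
    obtain ⟨e, hne⟩ := ih (fun q hq => hL q (List.mem_cons_of_mem _ hq)) _ rfl
    have hr := hL r List.mem_cons_self
    subst hπ
    simp only [List.map_cons, List.prod_cons, Equiv.Perm.mul_apply]
    refine ⟨?_, fun x y h => fst_ne_of_equivariant (rp_ng hr) (hne x y h)⟩
    rw [zz_rp hF hl P hr (hne _ _ hab) (hne _ _ hcd)
      (nz_four hl (hne _ _ hac) (hne _ _ had) (hne _ _ hbc) (hne _ _ hbd)), e]

theorem zz_four_mem (hl4 : l = 4) {a b c d : J l} (hab : a.1 ≠ b.1) (hac : a.1 ≠ c.1)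
    (had : a.1 ≠ d.1) (hbc : b.1 ≠ c.1) (hbd : b.1 ≠ d.1) (hcd : c.1 ≠ d.1) :
    zz P a b c d ∈ Z0 hl P := by
  set i0 : Fin l := ⟨0, by omega⟩ with hi0
  set i1 : Fin l := ⟨1, by omega⟩ with hi1
  set i2 : Fin l := ⟨2, by omega⟩ with hi2
  set i3 : Fin l := ⟨3, by omega⟩ with hi3
  have n01 : i0 ≠ i1 := by simp [hi0, hi1]
  have n02 : i0 ≠ i2 := by simp [hi0, hi2]
  have n12 : i1 ≠ i2 := by simp [hi1, hi2]
  have outside : ∀ j : Fin l, j ≠ i0 → j ≠ i1 → j ≠ i2 → j = i3 := by
    intro j h1 h2 h3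
    have := j.isLt
    simp only [hi0, hi1, hi2, ne_eq, Fin.ext_iff] at h1 h2 h3
    simp only [hi3, Fin.ext_iff]
    omega
  -- first
  obtain ⟨L1, hL1, e1, -⟩ := exists_move a ((i0, true) : J l) (x := i1) n01.symm
  obtain ⟨z1, k1⟩ := zz_list hF hl P L1 hL1 hab hac had hbc hbd hcd _ rfl
  set π1 := (L1.map fun r => rp r.1 r.2).prod
  rw [← z1, e1]
  have hb0 : (π1 b).1 ≠ i0 := by
    have := k1 _ _ hab.symm
    rwa [e1] at this
  have hc0 : (π1 c).1 ≠ i0 := by
    have := k1 _ _ hac.symm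
    rwa [e1] at this
  have hd0 : (π1 d).1 ≠ i0 := by
    have := k1 _ _ had.symm
    rwa [e1] at this
  have hbc1 := k1 _ _ hbc
  have hbd1 := k1 _ _ hbd
  have hcd1 := k1 _ _ hcd
  generalize π1 b = b1, π1 c = c1, π1 d = d1 at hb0 hc0 hd0 hbc1 hbd1 hcd1 ⊢
  -- second
  obtain ⟨L2, hL2, e2, f2⟩ := exists_move b1 ((i1, true) : J l) (x := i2) n12.symm
  obtain ⟨z2, k2⟩ := zz_list hF hl P L2 hL2 (a := ((i0, true) : J l)) hb0.symm hc0.symm hd0.symm
    hbc1 hbd1 hcd1 _ rfl
  rw [← z2, e2, f2 ((i0, true) : J l) hb0.symm n01 n02]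
  set π2 := (L2.map fun r => rp r.1 r.2).prod
  have f20 : π2 ((i0, true) : J l) = (i0, true) := f2 _ hb0.symm n01 n02
  have hc00 : (π2 c1).1 ≠ i0 := by
    have := k2 c1 ((i0, true) : J l) hc0
    rwa [f20] at this
  have hd00 : (π2 d1).1 ≠ i0 := by
    have := k2 d1 ((i0, true) : J l) hd0
    rwa [f20] at this
  have hc11 : (π2 c1).1 ≠ i1 := by
    have := k2 _ _ hbc1.symm
    rwa [e2] at this
  have hd11 : (π2 d1).1 ≠ i1 := by
    have := k2 _ _ hbd1.symm
    rwa [e2] at this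
  have hcd2 := k2 _ _ hcd1
  generalize π2 c1 = c2, π2 d1 = d2 at hc00 hd00 hc11 hd11 hcd2 ⊢
  -- third
  have n32 : i3 ≠ i2 := by simp [hi3, hi2]
  have n30 : i0 ≠ i3 := by simp [hi0, hi3]
  have n31 : i1 ≠ i3 := by simp [hi1, hi3]
  obtain ⟨L3, hL3, e3, f3⟩ := exists_move c2 ((i2, true) : J l) (x := i3) n32
  obtain ⟨z3, k3⟩ := zz_list hF hl P L3 hL3 (a := ((i0, true) : J l)) (b := ((i1, true) : J l))
    n01 hc00.symm hd00.symm hc11.symm hd11.symm hcd2 _ rfl
  set π3 := (L3.map fun r => rp r.1 r.2).prod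
  have f30 : π3 ((i0, true) : J l) = (i0, true) := f3 _ hc00.symm n02 n30
  have f31 : π3 ((i1, true) : J l) = (i1, true) := f3 _ hc11.symm n12 n31
  rw [← z3, e3, f30, f31]
  have hd2' : (π3 d2).1 = i3 := by
    refine outside _ ?_ ?_ ?_
    · have := k3 d2 ((i0, true) : J l) hd00
      rwa [f30] at this
    · have := k3 d2 ((i1, true) : J l) hd11
      rwa [f31] at this
    · have := k3 _ _ hcd2.symm
      rwa [e3] at this
  refine Subgroup.subset_closure ?_
  generalize π3 d2 = d3 at hd2'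
  obtain ⟨j, s⟩ := d3
  obtain rfl : j = i3 := hd2'
  cases s
  · exact Or.inr rfl
  · exact Or.inl rfl

/-- All commutators of lifts of commuting root elements lie in the subgroup. -/
theorem cm_mem_Z0 (hl4 : l = 4) {a b c d : J l} (hab : a.1 ≠ b.1) (hcd : c.1 ≠ d.1)
    (hnz : Nz a b c d) (t u : F) : P.cm (dX F l a b t) (dX F l c d u) ∈ Z0 hl P := by
  have R := dX_rels (F := F) hl
  rcases hF t with rfl | rfl
  · rw [R.zero hab, P.cm_one_left]; exact one_mem _
  rcases hF u with rfl | rfl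
  · rw [R.zero hcd, P.cm_one_right]; exact one_mem _
  show zz P a b c d ∈ Z0 hl P
  have share : ∀ {a b d : J l}, a.1 ≠ b.1 → a.1 ≠ d.1 → zz P a b a d ∈ Z0 hl P := by
    intro a b d hab had
    by_cases h : b.1 = d.1
    · rcases eq_or_eq_ng h.symm with rfl | rfl
      · rw [zz, CExt.cm, commutatorElement_self]; exact one_mem _
      · obtain ⟨i, hia, hib, -⟩ := exists_index hl a.1 b.1 b.1
        obtain ⟨j, hja, hjb, hji⟩ := exists_index hl a.1 b.1 i
        rw [zz_exc hF hl P hab (a := ((i, true) : J l)) hia.symm hib (j := ((j, true) : J l)) hja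
          hjb hji]
        refine mul_mem (zz_four_mem hF hl P hl4 ?_ ?_ ?_ ?_ ?_ ?_)
          (zz_four_mem hF hl P hl4 ?_ ?_ ?_ ?_ ?_ ?_)
        exacts [hjb.symm, hib.symm, hab.symm, hji, hja, hia, hjb, hji, hja, hib.symm, hab.symm, hia]
    · rw [zz, cm_share hl P hab had h]; exact one_mem _
  by_cases e1 : a = c
  · subst e1; exact share hab hcd
  by_cases e2 : a = d
  · subst e2
    rw [← zz_flip_right hF hl P hcd]
    exact share hab hcd.symm
  by_cases e3 : b = c
  · subst e3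
    rw [← zz_flip_left hF hl P hab]
    exact share hab.symm hcd
  by_cases e4 : b = d
  · subst e4
    rw [← zz_flip_left hF hl P hab, ← zz_flip_right hF hl P hcd]
    exact share hab.symm hcd.symm
  obtain ⟨n1, n2, n3, n4⟩ : a ≠ ng c ∧ a ≠ ng d ∧ b ≠ ng c ∧ b ≠ ng d := by
    rcases hnz with h | h | h | h | h
    exacts [h, absurd h e1, absurd h e2, absurd h e3, absurd h e4]
  have hne : ∀ {x y : J l}, x ≠ y → x ≠ ng y → x.1 ≠ y.1 := fun h h' e =>
    (eq_or_eq_ng e).elim h h'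
  exact zz_four_mem hF hl P hl4 hab (hne e1 n1) (hne e2 n2) (hne e3 n3) (hne e4 n4) hcd

/-- If commuting root elements lift to commuting elements then the extension splits. -/
theorem exists_section_of_commute
    (hall : ∀ {a b c d : J l}, a.1 ≠ b.1 → c.1 ≠ d.1 → Nz a b c d → ∀ t u : F,
      P.cm (dX F l a b t) (dX F l c d u) = 1) :
    ∃ τ : Delta F l →* E, P.p.comp τ = MonoidHom.id _ := by
  have R := dX_rels (F := F) hl
  have step : ∀ {a m m' c : J l}, a.1 ≠ m.1 → m.1 ≠ c.1 → a.1 ≠ c.1 → a.1 ≠ m'.1 → m'.1 ≠ c.1 →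
      m.1 ≠ m'.1 → YY P a m' c 1 = YY P a m c 1 := by
    intro a m m' c ham hmc hac ham' hmc' hmm
    rw [YY_move hF hl P ham hmc hac ham' hmc' hmm]
    rw [show zz P m' (ng m) a c = 1 from hall (show m'.1 ≠ (ng m).1 from hmm.symm) hac
      (nz_four hl ham'.symm hmc' ham.symm hmc) 1 1, one_mul]
  have indep : ∀ {a m m' c : J l}, a.1 ≠ m.1 → m.1 ≠ c.1 → a.1 ≠ c.1 → a.1 ≠ m'.1 →
      m'.1 ≠ c.1 → ∀ t, YY P a m' c t = YY P a m c t := by
    intro a m m' c ham hmc hac ham' hmc' t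
    rcases hF t with rfl | rfl
    · rw [YY, YY, R.zero ham, R.zero ham', P.cm_one_left, P.cm_one_left]
    by_cases hmm : m.1 = m'.1
    · obtain ⟨i, hia, hic, him⟩ := exists_index hl a.1 c.1 m.1
      rw [← step (m := m') (m' := ((i, true) : J l)) ham' hmc' hac hia.symm hic (hmm ▸ him.symm),
        step (m := m) (m' := ((i, true) : J l)) ham hmc hac hia.symm hic him.symm]
    · exact step ham hmc hac ham' hmc' hmm
  let mid : J l → J l → J l := fun a c => ((exists_index hl a.1 c.1 c.1).choose, true)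
  let y : J l → J l → F → E := fun a c t => YY P a (mid a c) c t
  have hmid : ∀ a c : J l, a.1 ≠ (mid a c).1 ∧ (mid a c).1 ≠ c.1 := fun a c =>
    ⟨(exists_index hl a.1 c.1 c.1).choose_spec.1.symm, (exists_index hl a.1 c.1 c.1).choose_spec.2.1⟩
  have py : ∀ {a c : J l}, a.1 ≠ c.1 → ∀ t, P.p (y a c t) = dX F l a c t := fun {a c} h t =>
    p_YY hl P (hmid a c).1 (hmid a c).2 h t
  have ycomm : ∀ {a b c d : J l}, a.1 ≠ b.1 → c.1 ≠ d.1 → Nz a b c d → ∀ t u : F,
      Commute (y a b t) (y c d u) := fun h h' hn t u =>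
    P.commute_of_cm (py h t) (py h' u) (hall h h' hn t u)
  have yzero : ∀ {a c : J l}, a.1 ≠ c.1 → y a c 0 = 1 := fun {a c} _ => by
    show YY P a (mid a c) c 0 = 1
    rw [YY, R.zero (hmid a c).1, P.cm_one_left]
  have yadd : ∀ {a c : J l}, a.1 ≠ c.1 → ∀ t u, y a c (t + u) = y a c t * y a c u := by
    intro a c h t u
    obtain ⟨h1, h2⟩ := hmid a c
    have hc : P.lift (dX F l a (mid a c) t) * y a c u = y a c u * P.lift (dX F l a (mid a c) t) :=
      P.commute_of_cm (P.p_lift _) (py h u) (hall h1 h (Or.inr (Or.inl rfl)) t u)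
    show YY P a (mid a c) c (t + u) = y a c t * y a c u
    rw [YY, R.add h1, P.cm_mul_left (P.p_lift _)]
    show P.lift _ * y a c u * _ * y a c t = _
    rw [hc, mul_inv_cancel_right]
    exact ycomm h h (Or.inr (Or.inl rfl)) u t
  have yform : ∀ {a b c : J l}, a.1 ≠ b.1 → b.1 ≠ c.1 → a.1 ≠ c.1 → ∀ t u,
      ⁅y a b t, y (ng b) c u⁆ = y a c (t * u) := by
    intro a b c hab hbc hac t u
    rw [← P.cm_eq (py hab t) (py (show (ng b).1 ≠ c.1 from hbc) u)]
    rcases hF u with rfl | rfl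
    · rw [R.zero (show (ng b).1 ≠ c.1 from hbc), P.cm_one_right, mul_zero, yzero hac]
    · rw [mul_one]
      exact indep (hmid a c).1 (hmid a c).2 hac hab hbc t
  have yflip : ∀ {a c : J l}, a.1 ≠ c.1 → ∀ t, y a c t = y c a (-t) := by
    intro a c h t
    have hneg : -t = t := by
      rcases hF t with rfl | rfl
      · simp
      · exact (hF _).resolve_left (by simp)
    rw [hneg]
    rcases hF t with rfl | rfl
    · rw [yzero h, yzero h.symm]
    obtain ⟨i, hia, hic, -⟩ := exists_index hl a.1 c.1 c.1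
    have hia' : a.1 ≠ ((i, true) : J l).1 := hia.symm
    have e1 : y a c 1 = YY P a ((i, true) : J l) c 1 :=
      indep hia' hic h (hmid a c).1 (hmid a c).2 1
    have e2 : y c a 1 = YY P c (ng ((i, true) : J l)) a 1 :=
      indep (show c.1 ≠ (ng ((i, true) : J l)).1 from hic.symm)
        (show (ng ((i, true) : J l)).1 ≠ a.1 from hia) h.symm (hmid c a).1 (hmid c a).2 1
    have e3 : (y a c 1)⁻¹ = y a c 1 := by
      refine inv_eq_of_mul_eq_one_right ?_
      rw [← yadd h, show (1 : F) + 1 = 0 from (hF _).resolve_right (by simp), yzero h]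
    rw [← e3, e1, e2, YY, YY, P.cm_inv, ng_ng,
      flip_one hF hl (show c.1 ≠ (ng ((i, true) : J l)).1 from hic.symm), flip_one hF hl hia']
  have Ry : DRels y :=
    { four := hl
      add := yadd
      flip := yflip
      form := fun hab hbc hac t u => by
        rw [← yform hab hbc hac t u, commutatorElement_def]; group
      comm := ycomm }
  refine ⟨toGroup Ry, PresentedGroup.ext fun q => ?_⟩
  rw [MonoidHom.comp_apply, MonoidHom.id_apply, ← dX_of q.1 q.2, toGroup_dX _ q.1.2, py q.1.2]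

theorem Z0_le_center (hl4 : l = 4) : Z0 hl P ≤ Subgroup.center E := by
  rw [Z0, Subgroup.closure_le]
  rintro z (rfl | rfl) <;> refine zz_center hl P ?_ ?_ (nz_four hl ?_ ?_ ?_ ?_) <;> simp

/-- The kernel of a perfect central extension is inside the subgroup. -/
theorem ker_le_Z0 (hl4 : l = 4) (hperf : commutator E = ⊤) : P.p.ker ≤ Z0 hl P := by
  have hZc := Z0_le_center hF hl P hl4
  have : (Z0 hl P).Normal := ⟨fun z hz g => by
    rw [Subgroup.mem_center_iff.1 (hZc hz) g, mul_inv_cancel_right]; exact hz⟩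
  have hZk : Z0 hl P ≤ P.p.ker := by
    rw [Z0, Subgroup.closure_le]
    rintro z (rfl | rfl) <;>
      rw [SetLike.mem_coe, MonoidHom.mem_ker, zz, P.p_cm,
        commutatorElement_eq_one_iff_mul_comm] <;>
      exact ((dX_rels hl).comm (by simp) (by simp) (nz_four hl (by simp) (by simp) (by simp)
        (by simp)) 1 1).eq
  let q := QuotientGroup.mk' (Z0 hl P)
  let P' : CExt (E ⧸ Z0 hl P) (Delta F l) :=
    { p := QuotientGroup.lift _ P.p hZk
      surj := fun g => ⟨q (P.lift g), P.p_lift g⟩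
      central := fun x hx => by
        obtain ⟨e, rfl⟩ := QuotientGroup.mk'_surjective _ x
        refine Subgroup.mem_center_iff.2 fun y => ?_
        obtain ⟨y, rfl⟩ := QuotientGroup.mk'_surjective _ y
        rw [← map_mul, ← map_mul, Subgroup.mem_center_iff.1 (P.central hx) y] }
  obtain ⟨τ, hτ⟩ := exists_section_of_commute hF hl P' (fun {a b c d} hab hcd hnz t u => by
    rw [P'.cm_eq (x := q (P.lift (dX F l a b t))) (y := q (P.lift (dX F l c d u))) (P.p_lift _)
      (P.p_lift _), ← map_commutatorElement]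
    exact (QuotientGroup.eq_one_iff _).2 (cm_mem_Z0 hF hl P hl4 hab hcd hnz t u))
  intro x hx
  refine (QuotientGroup.eq_one_iff x).1 ?_
  have hcl : ∀ y : E, ∃ z ∈ Subgroup.center (E ⧸ Z0 hl P), q y = τ (P.p y) * z := fun y =>
    ⟨(τ (P.p y))⁻¹ * q y, P'.central (by
      rw [MonoidHom.mem_ker, map_mul, map_inv,
        show P'.p (τ (P.p y)) = P.p y from DFunLike.congr_fun hτ _]
      exact inv_mul_cancel (P.p y)), (mul_inv_cancel_left _ _).symm⟩
  have hall : commutator E ≤ (τ.range).comap q := by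
    rw [commutator_def, Subgroup.commutator_le]
    intro a _ b _
    obtain ⟨za, hza, ea⟩ := hcl a
    obtain ⟨zb, hzb, eb⟩ := hcl b
    show q ⁅a, b⁆ ∈ τ.range
    rw [map_commutatorElement, ea, eb, CExt.comm_central_left hza, CExt.comm_central_right hzb,
      ← map_commutatorElement]
    exact ⟨_, rfl⟩
  obtain ⟨g, hg⟩ : q x ∈ τ.range := hall (hperf ▸ Subgroup.mem_top x)
  have e : g = 1 := by
    have h1 : P'.p (τ g) = P.p x := congrArg P'.p hg
    rw [show P'.p (τ g) = g from DFunLike.congr_fun hτ g] at h1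
    exact h1.trans (MonoidHom.mem_ker.1 hx)
  show q x = 1
  rw [← hg, e, map_one]

/-- The kernel is generated by two commuting involutions. -/
theorem exists_two_generators (hl4 : l = 4) (hperf : commutator E = ⊤) :
    ∃ π : Multiplicative (ZMod 2 × ZMod 2) →* P.p.ker, Function.Surjective π := by
  set z1 := zz P ((⟨0, by omega⟩ : Fin l), true) (⟨1, by omega⟩, true) (⟨2, by omega⟩, true)
    (⟨3, by omega⟩, true) with hz1
  set z2 := zz P ((⟨0, by omega⟩ : Fin l), true) (⟨1, by omega⟩, true) (⟨2, by omega⟩, true)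
    (⟨3, by omega⟩, false) with hz2
  have hmem : ∀ s : Bool, ∀ z, z = zz P ((⟨0, by omega⟩ : Fin l), true) (⟨1, by omega⟩, true)
      (⟨2, by omega⟩, true) (⟨3, by omega⟩, s) → z ∈ P.p.ker ∧ z * z = 1 ∧
        z ∈ Subgroup.center E := by
    intro s z e
    subst e
    refine ⟨?_, zz_sq hF hl P (by simp) (by simp)
        (nz_four hl (by simp) (by simp) (by simp) (by simp)),
      zz_center hl P (by simp) (by simp) (nz_four hl (by simp) (by simp) (by simp) (by simp))⟩
    rw [MonoidHom.mem_ker, zz, P.p_cm, commutatorElement_eq_one_iff_mul_comm]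
    exact ((dX_rels hl).comm (by simp) (by simp) (nz_four hl (by simp) (by simp) (by simp)
      (by simp)) 1 1).eq
  obtain ⟨k1, s1, c1⟩ := hmem true z1 hz1
  obtain ⟨k2, s2, c2⟩ := hmem false z2 hz2
  let f : ∀ z : P.p.ker, z * z = 1 → Multiplicative (ZMod 2) →* P.p.ker := fun z hz =>
    { toFun := fun t => z ^ (Multiplicative.toAdd t).val
      map_one' := pow_zero _
      map_mul' := fun s t => by
        have : z ^ 2 = 1 := by rw [pow_two]; exact hz
        rw [← pow_add, toAdd_mul, ZMod.val_add, pow_eq_pow_mod _ this, Nat.mod_mod,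
          ← pow_eq_pow_mod _ this] }
  let g1 := f ⟨z1, k1⟩ (Subtype.ext s1)
  let g2 := f ⟨z2, k2⟩ (Subtype.ext s2)
  let π0 : Multiplicative (ZMod 2) × Multiplicative (ZMod 2) →* P.p.ker :=
    MonoidHom.noncommCoprod g1 g2 fun s t => by
      refine (Commute.pow_pow ?_ _ _)
      exact Subtype.ext (Subgroup.mem_center_iff.1 c2 z1)
  refine ⟨π0.comp (MulEquiv.prodMultiplicative (ZMod 2) (ZMod 2)).toMonoidHom, ?_⟩
  rw [MonoidHom.coe_comp]
  refine Function.Surjective.comp ?_ (MulEquiv.prodMultiplicative (ZMod 2) (ZMod 2)).surjective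
  intro x
  have hle : Z0 hl P ≤ π0.range.map P.p.ker.subtype := by
    rw [Z0, Subgroup.closure_le]
    rintro z (rfl | rfl)
    · exact ⟨⟨z1, k1⟩, ⟨(Multiplicative.ofAdd (1 : ZMod 2), (1 : Multiplicative (ZMod 2))), by
        show g1 (Multiplicative.ofAdd (1 : ZMod 2)) * g2 1 = _
        rw [map_one g2, mul_one]
        exact pow_one _⟩, rfl⟩
    · exact ⟨⟨z2, k2⟩, ⟨((1 : Multiplicative (ZMod 2)), Multiplicative.ofAdd (1 : ZMod 2)), by
        show g1 1 * g2 (Multiplicative.ofAdd (1 : ZMod 2)) = _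
        rw [map_one g1, one_mul]
        exact pow_one _⟩, rfl⟩
  obtain ⟨y, ⟨w, hw⟩, hy⟩ := hle (ker_le_Z0 hF hl P hl4 hperf x.2)
  exact ⟨w, hw.trans (Subtype.ext hy)⟩

end CfsgLib.DMult.Two
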