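import Cfsg.Agent.Lib.DMult.TwoData
import Cfsg.Agent.Lib.DMult.TwoUpper
import Cfsg.Agent.Lib.DMult.Kernel

/-!
The Schur multiplier of `PΩ⁺(8, 2)`.
-/

set_option autoImplicit false

namespace CfsgLib.DMult.Two

open Matrix CfsgLib.SLPresent CfsgLib.ChevMult CfsgLib.Orth
open scoped commutatorElement

universe u

/-- The units of the integral matrices. -/
abbrev GLZ := (Matrix (Fin 8) (Fin 8) ℤ)ˣ

/-- The lift of a root element as a unit. -/
def lU (a b : J 4) : GLZ :=
  if h : a.1 ≠ b.1 then ⟨liftMat a b, liftMat a b, liftMat_sq a b h, liftMat_sq a b h⟩ else 1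

theorem lU_val {a b : J 4} (h : a.1 ≠ b.1) : (lU a b).1 = liftMat a b := by rw [lU, dif_pos h]

/-- The lifts generate a double cover. -/
def G1 : Subgroup GLZ := Subgroup.closure {g | ∃ a b, a.1 ≠ b.1 ∧ g = lU a b}

theorem lU_mem {a b : J 4} (h : a.1 ≠ b.1) : lU a b ∈ G1 :=
  Subgroup.subset_closure ⟨a, b, h, rfl⟩

theorem G1_gram {g : GLZ} (hg : g ∈ G1) : g.1.transpose * gram * g.1 = gram := by
  induction hg using Subgroup.closure_induction with
  | mem g hg =>
    obtain ⟨a, b, h, rfl⟩ := hg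
    rw [lU_val h]
    exact liftMat_gram a b h
  | one => simp
  | mul g k _ _ hg hk =>
    rw [Units.val_mul, Matrix.transpose_mul]
    conv_rhs => rw [← hk, ← hg]
    simp only [Matrix.mul_assoc]
  | inv g _ hg =>
    calc (g⁻¹).1.transpose * gram * (g⁻¹).1
        = (g⁻¹).1.transpose * (g.1.transpose * gram * g.1) * (g⁻¹).1 := by rw [hg]
      _ = (g.1 * (g⁻¹).1).transpose * gram * (g.1 * (g⁻¹).1) := by
          rw [Matrix.transpose_mul]; simp only [Matrix.mul_assoc]
      _ = gram := by rw [g.mul_inv, Matrix.transpose_one, Matrix.one_mul, Matrix.mul_one]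

/-- The lattice form. -/
def qf (x : Fin 8 → ℤ) : ℤ := x ⬝ᵥ gram *ᵥ x

theorem qf_nonneg (x : Fin 8 → ℤ) : 0 ≤ qf x ∧ (qf x = 0 → x = 0) := by
  have h : (euc *ᵥ x) ⬝ᵥ (euc *ᵥ x) = 4 * qf x := by
    rw [dotProduct_mulVec, ← mulVec_transpose, mulVec_mulVec, gram_euc, dotProduct_comm, qf,
      smul_mulVec, dotProduct_smul, nsmul_eq_mul]
    norm_num
  have h0 : 0 ≤ (euc *ᵥ x) ⬝ᵥ (euc *ᵥ x) :=
    Finset.sum_nonneg fun i _ => mul_self_nonneg _
  refine ⟨by omega, fun e => ?_⟩
  rw [e, mul_zero] at h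
  have h1 := congrArg (eucInv *ᵥ ·) (dotProduct_self_eq_zero.1 h)
  simp only [mulVec_mulVec, eucInv_euc, mulVec_zero, smul_mulVec, one_mulVec] at h1
  funext i
  have h2 := congrFun h1 i
  simp only [Pi.smul_apply, nsmul_eq_mul, Nat.cast_ofNat, Pi.zero_apply] at h2
  simpa using h2

theorem qf_even (x : Fin 8 → ℤ) : 2 ∣ qf x :=
  ⟨x ⬝ᵥ halfGram *ᵥ x, by
    rw [qf, gram_eq, add_mulVec, dotProduct_add, two_mul, mulVec_transpose,
      dotProduct_comm x (x ᵥ* halfGram), ← dotProduct_mulVec]⟩

/-- An isometry congruent to one modulo two is a sign. -/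
theorem sign_of_even {g : Matrix (Fin 8) (Fin 8) ℤ} (hg : g.transpose * gram * g = gram)
    (h2 : ∀ i j, 2 ∣ g i j - (1 : Matrix (Fin 8) (Fin 8) ℤ) i j) : g = 1 ∨ g = -1 := by
  classical
  choose W hW using h2
  have hgW : g = 1 + (2 : ℤ) • Matrix.of W := by
    ext i j
    rw [Matrix.add_apply, Matrix.smul_apply, Matrix.of_apply, smul_eq_mul]
    linear_combination hW i j
  have hsym : ∀ x y : Fin 8 → ℤ, x ⬝ᵥ gram *ᵥ y = y ⬝ᵥ gram *ᵥ x := fun x y => by
    have e : gram.transpose = gram := by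
      rw [gram_eq, transpose_add, transpose_transpose, add_comm]
    conv_rhs => rw [← e, mulVec_transpose, dotProduct_comm, ← dotProduct_mulVec]
  have hiso : ∀ x y : Fin 8 → ℤ, (g *ᵥ x) ⬝ᵥ gram *ᵥ (g *ᵥ y) = x ⬝ᵥ gram *ᵥ y := by
    intro x y
    conv_rhs => rw [← hg]
    rw [← mulVec_mulVec, ← mulVec_mulVec, mulVec_transpose, dotProduct_comm x,
      ← dotProduct_mulVec, dotProduct_comm]
  let col : Fin 8 → Fin 8 → ℤ := fun i j => simples j i
  have hcol : ∀ i j, col i ⬝ᵥ gram *ᵥ col j = (simples.transpose * gram * simples) i j := by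
    intro i j
    rw [Matrix.mul_assoc]
    rfl
  have key : ∀ i, ∃ s : ℤ, (s = 1 ∨ s = -1) ∧ g *ᵥ col i = s • col i := by
    intro i
    set r := col i with hr
    have hr2 : r ⬝ᵥ gram *ᵥ r = 2 := by rw [hr, hcol]; exact simples_norm i
    set w := Matrix.of W *ᵥ r with hw
    have hgr : g *ᵥ r = r + (2 : ℤ) • w := by
      rw [hgW, add_mulVec, one_mulVec, smul_mulVec]
    have h1 := hiso r r
    rw [hgr] at h1
    simp only [mulVec_add, mulVec_smul, dotProduct_add, add_dotProduct, dotProduct_smul,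
      smul_dotProduct, smul_eq_mul, hr2, hsym w r] at h1
    obtain ⟨hn, hz⟩ := qf_nonneg w
    obtain ⟨hm, hmz⟩ := qf_nonneg (r + w)
    obtain ⟨k, hk⟩ := qf_even w
    have h3 : qf (r + w) = 2 - qf w := by
      simp only [qf, mulVec_add, dotProduct_add, add_dotProduct, hr2, hsym w r]
      linarith
    have : qf w = 0 ∨ qf w = 2 := by omega
    rcases this with h | h
    · exact ⟨1, Or.inl rfl, by rw [hgr, hz h, smul_zero, add_zero, one_smul]⟩
    · have e : r + w = 0 := hmz (by omega)
      refine ⟨-1, Or.inr rfl, ?_⟩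
      rw [hgr, eq_neg_of_add_eq_zero_right e]
      module
  choose s hs1 hs using key
  have adj : ∀ i j, i ≠ j → (i.val, j.val) ∈ [(0, 2), (1, 3), (2, 3), (3, 4), (4, 5), (5, 6), (6, 7)] →
      s i = s j := by
    intro i j hij h
    have e := hiso (col i) (col j)
    rw [hs, hs, mulVec_smul, dotProduct_smul, smul_dotProduct, hcol, simples_adj i j hij h] at e
    rcases hs1 i with a | a <;> rcases hs1 j with b | b <;> rw [a, b] at e ⊢ <;> simp at e
  have e02 := adj 0 2 (by decide) (by decide)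
  have e13 := adj 1 3 (by decide) (by decide)
  have e23 := adj 2 3 (by decide) (by decide)
  have e34 := adj 3 4 (by decide) (by decide)
  have e45 := adj 4 5 (by decide) (by decide)
  have e56 := adj 5 6 (by decide) (by decide)
  have e67 := adj 6 7 (by decide) (by decide)
  have hall : ∀ i, s i = s 0 := by
    intro i
    fin_cases i
    exacts [rfl, e13.trans (e23.symm.trans e02.symm), e02.symm, e23.symm.trans e02.symm,
      e34.symm.trans (e23.symm.trans e02.symm),
      e45.symm.trans (e34.symm.trans (e23.symm.trans e02.symm)),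
      e56.symm.trans (e45.symm.trans (e34.symm.trans (e23.symm.trans e02.symm))),
      e67.symm.trans (e56.symm.trans (e45.symm.trans (e34.symm.trans (e23.symm.trans e02.symm))))]
  have hgS : g * simples = s 0 • simples := by
    ext i j
    have e := congrFun (hs j) i
    rw [hall j] at e
    exact e
  have hg0 : g = s 0 • 1 := by
    calc g = g * simples * simplesInv := by rw [Matrix.mul_assoc, simples_inv, Matrix.mul_one]
      _ = s 0 • 1 := by rw [hgS, Matrix.smul_mul, simples_inv]
  rcases hs1 0 with a | a <;> rw [a] at hg0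
  · exact Or.inl (by rw [hg0, one_smul])
  · exact Or.inr (by rw [hg0, neg_one_smul])

/-- The negative of the identity. -/
def negU : GLZ := -1

theorem negU_ne : negU ≠ 1 := by
  unfold negU
  decide

theorem negU_mem : negU ∈ G1 := by
  have e : negU = lU (0, true) (1, true) * lU (2, true) (3, true) *
      (lU (0, true) (1, true) * lU (2, true) (3, true)) := Units.ext (by
    rw [Units.val_mul, Units.val_mul, lU_val (by decide), lU_val (by decide)]
    exact liftMat_witness.1.symm)
  rw [e]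
  exact mul_mem (mul_mem (lU_mem (by decide)) (lU_mem (by decide)))
    (mul_mem (lU_mem (by decide)) (lU_mem (by decide)))

/-- The coordinates in dimension eight. -/
def eq8 : Fin 8 ≃ Fin 4 ⊕ Fin 4 := (finSumFinEquiv (m := 4) (n := 4)).symm

theorem eq8_co8 : ∀ a : J 4, eq8.symm (co a) = co8 a := by decide +kernel

theorem co8_inj : ∀ a b : J 4, co8 a = co8 b → a = b := by decide +kernel

/-- The other two indices. -/
def others (i j : Fin 4) : List (Fin 4) := (List.finRange 4).filter fun k => k ≠ i ∧ k ≠ j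

/-- The triality on roots. -/
def tau (a b : J 4) : J 4 × J 4 :=
  if a.2 = b.2 then (((others a.1 b.1).getD 0 0, !a.2), ((others a.1 b.1).getD 1 1, !a.2)) else (a, b)

/-- Two unordered pairs agree. -/
def Same (p : J 4 × J 4) (r s : J 4) : Prop := (p.1 = r ∧ p.2 = s) ∨ (p.1 = s ∧ p.2 = r)

instance instDecidableSame (p : J 4 × J 4) (r s : J 4) : Decidable (Same p r s) := by
  unfold Same; infer_instance

instance instDecidableNz (a b c d : J 4) : Decidable (Nz a b c d) := by unfold Nz; infer_instance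

theorem tau_ne : ∀ a b : J 4, a.1 ≠ b.1 → (tau a b).1.1 ≠ (tau a b).2.1 := by decide +kernel

theorem tau_flip : ∀ a b : J 4, a.1 ≠ b.1 → Same (tau b a) (tau a b).1 (tau a b).2 := by
  decide +kernel

theorem tau_form : ∀ a b c : J 4, a.1 ≠ b.1 → b.1 ≠ c.1 → a.1 ≠ c.1 →
    ∃ p ∈ [(tau a b).1, (tau a b).2], ∃ q ∈ [(tau a b).1, (tau a b).2],
      ∃ w ∈ [(tau a c).1, (tau a c).2], p.1 ≠ q.1 ∧ q.1 ≠ w.1 ∧ p.1 ≠ w.1 ∧ Same (tau a b) p q ∧
        Same (tau (ng b) c) (ng q) w ∧ Same (tau a c) p w := by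
  decide +kernel

theorem tau_comm : ∀ a b c d : J 4, a.1 ≠ b.1 → c.1 ≠ d.1 → Nz a b c d →
    Nz (tau a b).1 (tau a b).2 (tau c d).1 (tau c d).2 := by
  decide +kernel

theorem tau_witness : tau (0, true) (1, true) = ((2, false), (3, false)) ∧
    tau (2, true) (3, true) = ((0, false), (1, false)) ∧
    tau (2, true) (3, false) = ((2, true), (3, false)) := by decide +kernel

theorem liftMat_witness_perm :
    liftMat (2, false) (3, false) = liftMat (3, false) (2, false) ∧
      liftMat (0, false) (1, false) = liftMat (1, false) (0, false) :=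
  ⟨rfl, rfl⟩

variable (F : Type u) [Field F]

/-- Reduction modulo two. -/
noncomputable def red : Matrix (Fin 8) (Fin 8) ℤ →* Module.End F (Fin 4 ⊕ Fin 4 → F) :=
  ((Matrix.toLinAlgEquiv' (R := F) (n := Fin 4 ⊕ Fin 4)).toMonoidHom.comp
    (Matrix.reindexAlgEquiv F F eq8).toMonoidHom).comp
      (Int.castRingHom F).mapMatrix.toMonoidHom

theorem red_apply (M : Matrix (Fin 8) (Fin 8) ℤ) (x y : J 4) :
    red F M (bas F x) (co y) = (M (co8 y) (co8 x) : F) := by
  show (Matrix.toLinAlgEquiv' (Matrix.reindex eq8 eq8 (M.map (Int.castRingHom F))))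
    (Pi.single (co x) 1) (co y) = _
  rw [Matrix.toLinAlgEquiv'_apply, Matrix.mulVec_single]
  simp [eq8_co8]

/-- The representation of the presented group. -/
noncomputable def psi : Delta F 4 →* (Module.End F (Fin 4 ⊕ Fin 4 → F))ˣ :=
  appUnits.comp (orthHom le_rfl)

variable {F} [Fintype F] (hF : Fintype.card F = 2)
include hF

theorem two_elts (t : F) : t = 0 ∨ t = 1 := by
  classical
  by_contra h
  push Not at h
  have h1 : ({0, 1, t} : Finset F).card = 3 :=
    Finset.card_eq_three.2 ⟨0, 1, t, zero_ne_one, h.1.symm, h.2.symm, rfl⟩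
  have := Finset.card_le_univ ({0, 1, t} : Finset F)
  omega

theorem cast_eq_zero_iff (n : ℤ) : (n : F) = 0 ↔ 2 ∣ n := by
  have h2 : (2 : F) = 0 := (two_elts hF _).resolve_right fun h => one_ne_zero (by linear_combination h)
  constructor
  · intro h
    by_contra hn
    obtain ⟨k, rfl⟩ : ∃ k, n = 2 * k + 1 := ⟨n / 2, by omega⟩
    push_cast at h
    rw [h2, zero_mul, zero_add] at h
    exact one_ne_zero h
  · rintro ⟨k, rfl⟩
    push_cast
    rw [h2, zero_mul]

theorem red_lift {a b : J 4} (h : a.1 ≠ b.1) :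
    red F (liftMat a b) = app (oX F 4 a b 1) := by
  refine (Pi.basisFun F _).ext fun i => ?_
  obtain ⟨x, rfl⟩ := co_surjective i
  rw [Pi.basisFun_apply]
  funext j
  obtain ⟨y, rfl⟩ := co_surjective j
  have hneg : ∀ t : F, -t = t := fun t => by
    rcases two_elts hF t with rfl | rfl
    · simp
    · exact (two_elts hF _).resolve_left (by simp)
  have hc : (liftMat a b (co8 y) (co8 x) : F) = (oMat a b (co8 y) (co8 x) : F) := by
    rw [← sub_eq_zero, ← Int.cast_sub, cast_eq_zero_iff hF]
    have := liftMat_mod a b h (co8 y) (co8 x)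
    omega
  show red F (liftMat a b) (bas F x) (co y) = app (oX F 4 a b 1) (bas F x) (co y)
  rw [red_apply, hc, app_oX_bas h, one_smul, Pi.add_apply, Pi.sub_apply, sub_eq_add_neg, hneg,
    ← add_assoc]
  simp only [oMat, Int.cast_add, Int.cast_ite, Int.cast_one, Int.cast_zero]
  have hi : ∀ p q : J 4, co8 p = co8 q ↔ p = q := fun p q => ⟨co8_inj p q, fun e => by rw [e]⟩
  simp only [hi, bas_apply]
  congr 2
  · by_cases h1 : ng b = x
    · subst h1; by_cases h2 : y = a <;> simp [bas_apply, h2]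
    · simp [h1, Ne.symm h1]
  · by_cases h1 : ng a = x
    · subst h1; by_cases h2 : y = b <;> simp [bas_apply, h2]
    · simp [h1, Ne.symm h1]

theorem orth_injective : Function.Injective (orthHom (F := F) (le_refl 4)) := by
  refine (injective_iff_map_eq_one _).2 fun x hx => ?_
  obtain ⟨-, t, ht, -, -, A, hA, rfl⟩ :=
    scalar_form (le_refl 4) ((scal_one_iff (le_refl 4)).2 (MonoidHom.mem_ker.2 hx))
  obtain rfl : t = 1 := (two_elts hF t).resolve_left ht
  have hA1 : A = 1 := Subtype.ext (hA.trans (by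
    rw [show dd (le_refl 4) (1 : F) 1 = fun _ => 1 by funext i; simp [dd]]
    exact Matrix.diagonal_one))
  rw [hA1, map_one, one_mul, HP]
  exact HE_one (le_refl 4) (q0_ne_q1 (le_refl 4))

theorem psi_injective : Function.Injective (psi F) := fun x y h =>
  orth_injective hF (ext_app fun v => LinearMap.congr_fun (congrArg Units.val h) v)

theorem red_mem : ∀ g : G1, Units.map (red F) g.1 ∈ (psi F).range := by
  rintro ⟨g, hg⟩
  show Units.map (red F) g ∈ _
  induction hg using Subgroup.closure_induction with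
  | mem g hg =>
    obtain ⟨a, b, h, rfl⟩ := hg
    refine ⟨dX F 4 a b 1, Units.ext ?_⟩
    show app (orthHom le_rfl (dX F 4 a b 1)) = red F (lU a b).1
    rw [orthHom_dX le_rfl h, lU_val h, red_lift hF h]
  | one => rw [map_one]; exact one_mem _
  | mul g k _ _ hg hk => rw [map_mul]; exact mul_mem hg hk
  | inv g _ hg => rw [map_inv]; exact inv_mem hg

/-- The double cover map. -/
noncomputable def sig1 : G1 →* Delta F 4 :=
  (MonoidHom.ofInjective (psi_injective hF)).symm.toMonoidHom.comp
    (((Units.map (red F)).comp G1.subtype).codRestrict (psi F).range (red_mem hF))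

theorem psi_sig1 (g : G1) : psi F (sig1 hF g) = Units.map (red F) g.1 := by
  have h := MonoidHom.apply_ofInjective_symm (psi_injective hF)
    (((Units.map (red F)).comp G1.subtype).codRestrict (psi F).range (red_mem hF) g)
  exact h

theorem sig1_lU {a b : J 4} (h : a.1 ≠ b.1) : sig1 hF ⟨lU a b, lU_mem h⟩ = dX F 4 a b 1 := by
  refine psi_injective hF ((psi_sig1 hF _).trans (Units.ext ?_))
  show red F (lU a b).1 = app (orthHom le_rfl (dX F 4 a b 1))
  rw [orthHom_dX le_rfl h, lU_val h, red_lift hF h]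

theorem sig1_surjective : Function.Surjective (sig1 hF) := by
  intro x
  have hx : x ∈ (⊤ : Subgroup (Delta F 4)) := trivial
  rw [← dX_gen] at hx
  induction hx using Subgroup.closure_induction with
  | mem x hx =>
    obtain ⟨a, b, t, h, rfl⟩ := hx
    rcases two_elts hF t with rfl | rfl
    · exact ⟨1, by rw [map_one, (dX_rels le_rfl).zero h]⟩
    · exact ⟨_, sig1_lU hF h⟩
  | one => exact ⟨1, map_one _⟩
  | mul x y _ _ hx hy =>
    obtain ⟨g, rfl⟩ := hx
    obtain ⟨k, rfl⟩ := hy
    exact ⟨g * k, map_mul _ _ _⟩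
  | inv x _ hx =>
    obtain ⟨g, rfl⟩ := hx
    exact ⟨g⁻¹, map_inv _ _⟩

theorem sig1_ker {g : G1} (hg : sig1 hF g = 1) : g.1 = 1 ∨ g.1 = negU := by
  have h : Units.map (red F) g.1 = 1 := by rw [← psi_sig1 hF, hg, map_one]
  have h2 : ∀ i j, 2 ∣ g.1.1 i j - (1 : Matrix (Fin 8) (Fin 8) ℤ) i j := by
    intro i j
    rw [← cast_eq_zero_iff (F := F) hF, Int.cast_sub]
    obtain ⟨x, hx⟩ := co_surjective (eq8 i)
    obtain ⟨y, hy⟩ := co_surjective (eq8 j)
    have hi : co8 x = i := by rw [← eq8_co8, hx, Equiv.symm_apply_apply]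
    have hj : co8 y = j := by rw [← eq8_co8, hy, Equiv.symm_apply_apply]
    have e : red F g.1.1 (bas F y) (co x) = bas F y (co x) := by
      rw [show red F g.1.1 = 1 from congrArg Units.val h]; rfl
    rw [red_apply, bas_apply, hi, hj] at e
    rw [e, Matrix.one_apply]
    by_cases hij : i = j
    · subst hij
      rw [if_pos (co8_inj _ _ (hi.trans hj.symm)), if_pos rfl, Int.cast_one, sub_self]
    · rw [if_neg (fun e => hij (by rw [← hi, ← hj, e])), if_neg hij, Int.cast_zero, sub_self]
  rcases sign_of_even (G1_gram g.2) h2 with e | e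
  · exact Or.inl (Units.ext e)
  · exact Or.inr (Units.ext e)

theorem sig1_negU : sig1 hF ⟨negU, negU_mem⟩ = 1 := by
  refine psi_injective hF ?_
  rw [psi_sig1, map_one]
  refine Units.ext ((Pi.basisFun F _).ext fun i => ?_)
  obtain ⟨x, rfl⟩ := co_surjective i
  rw [Pi.basisFun_apply]
  funext j
  obtain ⟨y, rfl⟩ := co_surjective j
  show red F (negU).1 (bas F x) (co y) = bas F x (co y)
  rw [red_apply, bas_apply]
  have hneg : -(1 : F) = 1 := (two_elts hF _).resolve_left (by simp)
  by_cases h : y = x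
  · subst h; simp [negU, hneg]
  · have : co8 y ≠ co8 x := fun e => h (co8_inj _ _ e)
    simp [negU, h, this]

theorem same_dX {p : J 4 × J 4} {r s : J 4} (hp : p.1.1 ≠ p.2.1) (h : Same p r s) (t : F) :
    dX F 4 p.1 p.2 t = dX F 4 r s t := by
  rcases h with ⟨rfl, rfl⟩ | ⟨rfl, rfl⟩
  · rfl
  · rw [(dX_rels le_rfl).flip hp t]
    congr 1
    rcases two_elts hF t with rfl | rfl
    · simp
    · exact (two_elts hF _).resolve_left (by simp)

theorem tau_rels : DRels fun a b t => dX F 4 (tau a b).1 (tau a b).2 t := by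
  have R := dX_rels (F := F) (le_refl 4)
  refine ⟨le_rfl, fun h t u => R.add (tau_ne _ _ h) t u, fun {a b} h t => ?_,
    fun {a b c} hab hbc hac t u => ?_, fun {a b c d} hab hcd hnz t u => ?_⟩
  · have e : -t = t := by
      rcases two_elts hF t with rfl | rfl
      · simp
      · exact (two_elts hF _).resolve_left (by simp)
    rw [e]
    exact (same_dX hF (tau_ne _ _ h.symm) (tau_flip a b h) t).symm
  · obtain ⟨p, -, q, -, w, -, hpq, hqw, hpw, h1, h2, h3⟩ := tau_form a b c hab hbc hac
    have e1 := same_dX hF (tau_ne _ _ hab) h1 t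
    have e2 := same_dX hF (tau_ne _ _ (show (ng b).1 ≠ c.1 from hbc)) h2 u
    have e3 := same_dX hF (tau_ne _ _ hac) h3 (t * u)
    simp only [e1, e2, e3]
    exact R.form hpq hqw hpw t u
  · exact R.comm (tau_ne _ _ hab) (tau_ne _ _ hcd) (tau_comm a b c d hab hcd hnz) t u

/-- The triality. -/
noncomputable def tauHom : Delta F 4 →* Delta F 4 := toGroup (tau_rels hF)

/-- The fourfold cover. -/
noncomputable def cover : Subgroup (G1 × G1) where
  carrier := {p | sig1 hF p.2 = tauHom hF (sig1 hF p.1)}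
  mul_mem' {p q} hp hq := by
    simp only [Set.mem_ofPred_eq, Prod.fst_mul, Prod.snd_mul, map_mul] at hp hq ⊢
    rw [hp, hq]
  one_mem' := by simp
  inv_mem' {p} hp := by
    simp only [Set.mem_ofPred_eq, Prod.fst_inv, Prod.snd_inv, map_inv] at hp ⊢
    rw [hp]

theorem lift_mem_cover {a b : J 4} (h : a.1 ≠ b.1) :
    ((⟨lU a b, lU_mem h⟩ : G1), (⟨lU (tau a b).1 (tau a b).2, lU_mem (tau_ne a b h)⟩ : G1))
      ∈ cover hF := by
  show sig1 hF _ = tauHom hF (sig1 hF _)
  rw [sig1_lU hF h, sig1_lU hF (tau_ne a b h)]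
  exact (toGroup_dX (tau_rels hF) h (1 : F)).symm

theorem piHom_bijective : Function.Bijective (piHom (F := F) (le_refl 4)) := by
  refine ⟨(injective_iff_map_eq_one _).2 fun x hx => ?_, piHom_surjective _⟩
  obtain ⟨e, he⟩ := (mem_ker_iff (le_refl 4)).1 (MonoidHom.mem_ker.2 hx)
  have h0 : e ≠ 0 := fun h => by
    have := (scalar_form (le_refl 4) he).1
    simp [h] at this
  rw [(two_elts hF e).resolve_left h0] at he
  exact orth_injective hF ((MonoidHom.mem_ker.1 ((scal_one_iff (le_refl 4)).1 he)).trans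
    (map_one _).symm)

omit hF in
/-- The sign in the double cover. -/
def nG : G1 := ⟨negU, negU_mem⟩

omit hF in
theorem nG_sq : nG ^ 2 = 1 := by
  rw [pow_two]
  refine Subtype.ext ?_
  show negU * negU = 1
  simp [negU]

omit hF in
theorem nG_ne : nG ≠ 1 := fun e => negU_ne (congrArg Subtype.val e)

omit hF in
/-- The signs as a homomorphism. -/
def fZ : Multiplicative (ZMod 2) →* G1 where
  toFun t := nG ^ (Multiplicative.toAdd t).val
  map_one' := pow_zero _
  map_mul' s t := by
    rw [← pow_add, toAdd_mul, ZMod.val_add]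
    exact pow_eq_pow_mod _ nG_sq |>.symm.trans rfl

omit hF in
theorem fZ_one : fZ (Multiplicative.ofAdd (1 : ZMod 2)) = nG := pow_one _

omit hF in
theorem z2_cases : ∀ t : Multiplicative (ZMod 2), t = 1 ∨ t = Multiplicative.ofAdd (1 : ZMod 2) := by
  decide

omit hF in
theorem fZ_injective : Function.Injective fZ := by
  refine (injective_iff_map_eq_one fZ).2 fun t ht => ?_
  rcases z2_cases t with rfl | rfl
  · rfl
  · exact absurd (fZ_one.symm.trans ht) nG_ne

omit hF in
theorem fZ_pick {x : G1} (h : x.1 = 1 ∨ x.1 = negU) : ∃ t, fZ t = x := by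
  rcases h with e | e
  · exact ⟨1, (map_one fZ).trans (Subtype.ext e.symm)⟩
  · exact ⟨_, fZ_one.trans (Subtype.ext e.symm)⟩

theorem sig1_fZ (t : Multiplicative (ZMod 2)) : sig1 hF (fZ t) = 1 := by
  rcases z2_cases t with rfl | rfl
  · rw [map_one, map_one]
  · rw [fZ_one]; exact sig1_negU hF

theorem finite_G1 : Finite G1 := by
  classical
  have := finite_delta (F := F) (le_refl 4)
  have hk : Finite (sig1 hF).ker := Finite.of_injective (fun z => decide (z.1.1 = (1 : GLZ)))
    fun z w e => by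
      simp only [decide_eq_decide] at e
      refine Subtype.ext (Subtype.ext ?_)
      rcases sig1_ker hF z.2 with a | a <;> rcases sig1_ker hF w.2 with b | b
      · rw [a, b]
      · rw [a, e.1 a]
      · rw [b, e.2 b]
      · rw [a, b]
  have : Finite (G1 ⧸ (sig1 hF).ker) :=
    Finite.of_equiv _ (QuotientGroup.quotientKerEquivOfSurjective _
      (sig1_surjective hF)).symm.toEquiv
  exact Finite.of_subgroup_quotient (sig1 hF).ker

/-- The cover of the presented group. -/
noncomputable def sigC : cover hF →* Delta F 4 :=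
  (sig1 hF).comp ((MonoidHom.fst _ _).comp (cover hF).subtype)

theorem sigC_apply (z : cover hF) : sigC hF z = sig1 hF z.1.1 := rfl

theorem sigC_surjective : Function.Surjective (sigC hF) := fun x => by
  obtain ⟨g, hg⟩ := sig1_surjective hF x
  obtain ⟨k, hk⟩ := sig1_surjective hF (tauHom hF x)
  exact ⟨⟨(g, k), (by rw [hg, hk] : sig1 hF k = tauHom hF (sig1 hF g))⟩, hg⟩

theorem sigC_ker {z : cover hF} (hz : z ∈ (sigC hF).ker) :
    (z.1.1.1 = 1 ∨ z.1.1.1 = negU) ∧ (z.1.2.1 = 1 ∨ z.1.2.1 = negU) := by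
  have h1 : sig1 hF z.1.1 = 1 := hz
  have h2 : sig1 hF z.1.2 = tauHom hF (sig1 hF z.1.1) := z.2
  rw [h1, map_one] at h2
  exact ⟨sig1_ker hF h1, sig1_ker hF h2⟩

omit hF in
theorem sign_comm {x : GLZ} (h : x = 1 ∨ x = negU) (y : GLZ) : y * x = x * y := by
  rcases h with rfl | rfl <;> simp [negU]

theorem sigC_central : (sigC hF).ker ≤ Subgroup.center (cover hF) := fun z hz => by
  obtain ⟨h1, h2⟩ := sigC_ker hF hz
  exact Subgroup.mem_center_iff.2 fun y => Subtype.ext (Prod.ext
    (Subtype.ext (sign_comm h1 _)) (Subtype.ext (sign_comm h2 _)))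

/-- The four signs in the cover. -/
noncomputable def gZ : Multiplicative (ZMod 2) × Multiplicative (ZMod 2) →* cover hF :=
  (MonoidHom.prodMap fZ fZ).codRestrict (cover hF) fun p => by
    show sig1 hF (fZ p.2) = tauHom hF (sig1 hF (fZ p.1))
    rw [sig1_fZ, sig1_fZ, map_one]

theorem gZ_fst (p : Multiplicative (ZMod 2) × Multiplicative (ZMod 2)) :
    (gZ hF p).1.1 = fZ p.1 := rfl

theorem gZ_snd (p : Multiplicative (ZMod 2) × Multiplicative (ZMod 2)) :
    (gZ hF p).1.2 = fZ p.2 := rfl

theorem gZ_mem (p : Multiplicative (ZMod 2) × Multiplicative (ZMod 2)) :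
    gZ hF p ∈ (sigC hF).ker := by
  rw [MonoidHom.mem_ker, sigC_apply, gZ_fst]
  exact sig1_fZ hF _

theorem gZ_bijective : Function.Bijective ((gZ hF).codRestrict (sigC hF).ker (gZ_mem hF)) := by
  refine ⟨fun p q e => ?_, fun z => ?_⟩
  · have e' : gZ hF p = gZ hF q := congrArg Subtype.val e
    refine Prod.ext (fZ_injective ?_) (fZ_injective ?_)
    · rw [← gZ_fst hF, ← gZ_fst hF, e']
    · rw [← gZ_snd hF, ← gZ_snd hF, e']
  · obtain ⟨h1, h2⟩ := sigC_ker hF z.2
    obtain ⟨s, hs⟩ := fZ_pick h1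
    obtain ⟨t, ht⟩ := fZ_pick h2
    exact ⟨(s, t), Subtype.ext (Subtype.ext (Prod.ext hs ht))⟩

omit hF in
theorem lU_inv {a b : J 4} (h : a.1 ≠ b.1) : (lU a b)⁻¹ = lU a b :=
  inv_eq_of_mul_eq_one_right (Units.ext (by
    rw [Units.val_mul, lU_val h]; exact liftMat_sq _ _ h))

omit hF in
theorem lU_comm_val {a b c d : J 4} (h : a.1 ≠ b.1) (h' : c.1 ≠ d.1) :
    (⁅lU a b, lU c d⁆ : GLZ).1 = liftMat a b * liftMat c d * (liftMat a b * liftMat c d) := by
  rw [commutatorElement_def, lU_inv h, lU_inv h', mul_assoc, Units.val_mul, Units.val_mul,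
    lU_val h, lU_val h']

theorem gZ_commutator_one :
    gZ hF (Multiplicative.ofAdd (1 : ZMod 2), Multiplicative.ofAdd (1 : ZMod 2)) ∈
      commutator (cover hF) := by
  have h01 : ((0, true) : J 4).1 ≠ ((1, true) : J 4).1 := by decide
  have h23 : ((2, true) : J 4).1 ≠ ((3, true) : J 4).1 := by decide
  have := Subgroup.commutator_mem_commutator
    (Subgroup.mem_top (⟨_, lift_mem_cover hF h01⟩ : cover hF))
    (Subgroup.mem_top (⟨_, lift_mem_cover hF h23⟩ : cover hF))
  rw [commutator_def]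
  convert this using 1
  obtain ⟨w1, w2, w3, w4⟩ := liftMat_witness
  obtain ⟨u1, u2, u3⟩ := tau_witness
  obtain ⟨v1, v2⟩ := liftMat_witness_perm
  refine Subtype.ext (Prod.ext (Subtype.ext (Units.ext ?_)) (Subtype.ext (Units.ext ?_)))
  · rw [gZ_fst, fZ_one]
    exact w1.symm.trans (lU_comm_val h01 h23).symm
  · rw [gZ_snd, fZ_one]
    refine Eq.trans ?_ (lU_comm_val (tau_ne _ _ h01) (tau_ne _ _ h23)).symm
    rw [u1, u2, v1, v2]
    exact w3.symm

theorem gZ_commutator_two :
    gZ hF (Multiplicative.ofAdd (1 : ZMod 2), (1 : Multiplicative (ZMod 2))) ∈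
      commutator (cover hF) := by
  have h01 : ((0, true) : J 4).1 ≠ ((1, true) : J 4).1 := by decide
  have h23' : ((2, true) : J 4).1 ≠ ((3, false) : J 4).1 := by decide
  have := Subgroup.commutator_mem_commutator
    (Subgroup.mem_top (⟨_, lift_mem_cover hF h01⟩ : cover hF))
    (Subgroup.mem_top (⟨_, lift_mem_cover hF h23'⟩ : cover hF))
  rw [commutator_def]
  convert this using 1
  obtain ⟨w1, w2, w3, w4⟩ := liftMat_witness
  obtain ⟨u1, u2, u3⟩ := tau_witness
  refine Subtype.ext (Prod.ext (Subtype.ext (Units.ext ?_)) (Subtype.ext (Units.ext ?_)))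
  · rw [gZ_fst, fZ_one]
    exact w2.symm.trans (lU_comm_val h01 h23').symm
  · rw [gZ_snd, map_one]
    refine Eq.trans ?_ (lU_comm_val (tau_ne _ _ h01) (tau_ne _ _ h23')).symm
    rw [u1, u3]
    exact w4.symm

theorem gZ_stem (p : Multiplicative (ZMod 2) × Multiplicative (ZMod 2)) :
    gZ hF p ∈ commutator (cover hF) := by
  obtain ⟨s, t⟩ := p
  rcases z2_cases s with rfl | rfl <;> rcases z2_cases t with rfl | rfl
  · rw [show ((1 : Multiplicative (ZMod 2)), (1 : Multiplicative (ZMod 2))) = 1 from rfl, map_one]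
    exact one_mem _
  · have e : ((1 : Multiplicative (ZMod 2)), Multiplicative.ofAdd (1 : ZMod 2)) =
        (Multiplicative.ofAdd (1 : ZMod 2), Multiplicative.ofAdd (1 : ZMod 2)) *
          (Multiplicative.ofAdd (1 : ZMod 2), 1) := by decide
    rw [e, map_mul]
    exact mul_mem (gZ_commutator_one hF) (gZ_commutator_two hF)
  · exact gZ_commutator_two hF
  · exact gZ_commutator_one hF

/-- The Schur multiplier of `PΩ⁺(8, 2)`. -/
theorem hasSchurMultiplier :
    Cfsg.HasSchurMultiplier (Cfsg.POmega F ⇑(plusQ 4 F)) (Multiplicative (ZMod 2 × ZMod 2)) := by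
  classical
  have := finite_delta (F := F) (le_refl 4)
  have := finite_G1 hF
  set eQ := MulEquiv.ofBijective (piHom (F := F) (le_refl 4)) (piHom_bijective hF) with heQ
  refine ⟨?_, fun E _ _ σ hσ => ?_⟩
  · let ι : ULift.{u} (cover hF) ≃* cover hF := MulEquiv.ulift
    have hkeq : ((eQ.toMonoidHom.comp (sigC hF)).comp ι.toMonoidHom).ker.map ι.toMonoidHom =
        (sigC hF).ker := by
      ext x
      rw [Subgroup.mem_map]
      refine ⟨?_, fun hx => ⟨ι.symm x, ?_, ι.apply_symm_apply x⟩⟩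
      · rintro ⟨y, hy, rfl⟩
        exact MonoidHom.mem_ker.2
          (eQ.injective ((hy : eQ (sigC hF (ι y)) = 1).trans eQ.map_one.symm))
      · show eQ (sigC hF (ι (ι.symm x))) = 1
        rw [ι.apply_symm_apply, (MonoidHom.mem_ker.1 hx), map_one]
    have hker : ∀ z ∈ ((eQ.toMonoidHom.comp (sigC hF)).comp ι.toMonoidHom).ker,
        ι z ∈ (sigC hF).ker := fun z hz => by
      rw [← hkeq]; exact ⟨z, hz, rfl⟩
    refine ⟨ULift.{u} (cover hF), inferInstance, inferInstance,
      (eQ.toMonoidHom.comp (sigC hF)).comp ι.toMonoidHom,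
      ⟨(eQ.surjective.comp (sigC_surjective hF)).comp ι.surjective, ?_, ?_⟩,
      ⟨(ι.subgroupMap _).trans ((MulEquiv.subgroupCongr hkeq).trans
        ((MulEquiv.ofBijective _ (gZ_bijective hF)).symm.trans
          (MulEquiv.prodMultiplicative _ _).symm))⟩⟩
    · intro z hz
      refine Subgroup.mem_center_iff.2 fun y => ι.injective ?_
      rw [map_mul, map_mul]
      exact Subgroup.mem_center_iff.1 (sigC_central hF (hker z hz)) (ι y)
    · intro z hz
      obtain ⟨p, hp⟩ := (gZ_bijective hF).2 ⟨ι z, hker z hz⟩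
      have h1 : ι z ∈ commutator (cover hF) := by
        rw [show ι z = gZ hF p from congrArg Subtype.val hp.symm]
        exact gZ_stem hF p
      rw [← CfsgLib.SchurCover.map_commutator_eq ι.toMonoidHom ι.surjective] at h1
      obtain ⟨w, hw, hwz⟩ := h1
      exact ι.injective hwz ▸ hw
  · let P : CExt E (Delta F 4) :=
      { p := eQ.symm.toMonoidHom.comp σ
        surj := eQ.symm.surjective.comp hσ.1
        central := fun x hx => hσ.2.1 (by
          rw [MonoidHom.mem_ker] at hx ⊢
          simpa using congrArg eQ hx) }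
    have hperfQ : commutator (Cfsg.POmega F ⇑(plusQ 4 F)) = ⊤ := by
      rw [← CfsgLib.SchurCover.map_commutator_eq _ (piHom_surjective (le_refl 4)),
        delta_perfect (le_refl 4), Subgroup.map_top_of_surjective _ (piHom_surjective (le_refl 4))]
    obtain ⟨π, hπ⟩ := exists_two_generators (two_elts hF) (le_refl 4) P rfl
      (commutator_eq_top_of_stem hσ hperfQ)
    have hk : P.p.ker = σ.ker := by
      ext x
      simp [P, MonoidHom.mem_ker]
    exact ⟨(MulEquiv.subgroupCongr hk).toMonoidHom.comp π,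
      (MulEquiv.subgroupCongr hk).surjective.comp hπ⟩

end CfsgLib.DMult.Two
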